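import Mathlib
import Cfsg.Agent.H783.CS.Fld
import Cfsg.Agent.H783.CS.Grp
import Cfsg.Agent.H377.ToOmega
import Cfsg.Agent.H364.OrthP
import Cfsg.Agent.ClassicalGeometry.OrthDickson

/-!
# S3677: centralizers in `PΩ(Q)` and in the isometry group (helper783)
-/

set_option autoImplicit false
set_option linter.unusedSectionVars false
set_option linter.style.haveILetI false

namespace Cfsg.Agent.H783.CS

open Module QuadraticMap Cfsg
open Cfsg.Agent.H420.Lift (opHom opHom_apply opHom_injective opHom_iso opHom_eq_one_iff exists_lift)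
open Cfsg.Agent.LieClassical.OrthCount (isometryGroupEquiv)
open Cfsg.Agent.LieClassical.OmegaCenter (omegaMat omega_ext mem_center_omega_iff)
open Cfsg.Agent.ClassicalGeometry.OrthCharTwo (fixSp mem_fixSp)
open Cfsg.Agent.ClassicalGeometry.OrthDickson (dsign dsign_def dsignHom dsignHom_apply dsign_refl refl_notMem_commutator
  index_commutator_two dsign_eq_one_of_mem_commutator)

variable {F : Type*} [Field F] {ι : Type} [Fintype ι] [DecidableEq ι]

theorem exists_isom (Q : QuadraticForm F (ι → F)) {T : Module.End F (ι → F)} (hT : ∀ v, Q (T v) = Q v)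
    (hi : Function.Injective T) : ∃ g : isometryGroup F ⇑Q, opHom (⇑Q) g = T := by
  refine ⟨(isometryGroupEquiv Q).symm ⟨LinearEquiv.ofInjectiveEndo T hi, hT⟩, ?_⟩
  apply LinearMap.ext
  intro v
  have h1 := congrArg Subtype.val ((isometryGroupEquiv Q).apply_symm_apply ⟨LinearEquiv.ofInjectiveEndo T hi, hT⟩)
  exact LinearEquiv.congr_fun h1 v

theorem comm_iff {Q : (ι → F) → F} {g X : isometryGroup F Q} :
    Commute g X ↔ ∀ v, opHom Q g (opHom Q X v) = opHom Q X (opHom Q g v) := by
  constructor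
  · intro h v
    rw [← Module.End.mul_apply, ← Module.End.mul_apply, ← map_mul, ← map_mul, h.eq]
  · intro h
    apply opHom_injective Q
    rw [map_mul, map_mul]
    exact LinearMap.ext h

theorem fix_eq {Q : (ι → F) → F} (g : isometryGroup F Q) : fixSp g = LinearMap.ker (opHom Q g - 1) := by
  ext v
  rw [mem_fixSp, LinearMap.mem_ker, LinearMap.sub_apply, Module.End.one_apply, sub_eq_zero, opHom_apply]
  rfl

theorem even_fix [Finite F] {Q : QuadraticForm F (ι → F)} (hQ : (polarBilin Q).Nondegenerate) (h4 : Fintype.card ι ≠ 4)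
    (hev : Even (Fintype.card ι)) {g : isometryGroup F ⇑Q} (hg : g ∈ Omega F ⇑Q) :
    Even (finrank F (LinearMap.ker (opHom (⇑Q) g - 1))) := by
  have h1 := dsign_eq_one_of_mem_commutator Q hQ (Or.inr h4) g hg
  rw [dsign_def, fix_eq, pow_add, hev.neg_one_pow, mul_one] at h1
  rcases Nat.even_or_odd (finrank F (LinearMap.ker (opHom (⇑Q) g - 1))) with h | h
  · exact h
  · rw [h.neg_one_pow] at h1
    exact absurd h1 (by decide)

/-- isometries of odd order lie in `Ω` -/
theorem mem_omega_of_odd [Finite F] {Q : QuadraticForm F (ι → F)} (hQ : (polarBilin Q).Nondegenerate)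
    (h5 : 5 ≤ Fintype.card ι) {g : isometryGroup F ⇑Q} {N : ℕ} (hN : Odd N) (hg : g ^ N = 1) : g ∈ Omega F ⇑Q := by
  have h1 := H377.mul_self_mem_Omega Q (Cfsg.Agent.LieClassical.OrthCore.nondeg_of_nondegenerate hQ) h5 g
  obtain ⟨k, hk⟩ := hN
  have h2 : g = (g * g) ^ (k + 1) := by
    have h3 : g ^ (N + 1) = g := by rw [pow_succ, hg, one_mul]
    rw [← pow_two, ← pow_mul]
    rw [show 2 * (k + 1) = N + 1 by omega, h3]
  rw [h2]
  exact Subgroup.pow_mem _ h1 _

/-- in characteristic two, `Ω` is the kernel of the Dickson invariant -/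
theorem mem_omega_of_even [Finite F] (h2 : (2 : F) = 0) {Q : QuadraticForm F (ι → F)}
    (hQ : (polarBilin Q).Nondegenerate) (h5 : 5 ≤ Fintype.card ι) (hev : Even (Fintype.card ι)) {g : isometryGroup F ⇑Q}
    (hg : Even (finrank F (LinearMap.ker (opHom (⇑Q) g - 1)))) : g ∈ Omega F ⇑Q := by
  have : Nonempty ι := Fintype.card_pos_iff.1 (by omega)
  have h4 : (∃ θ : F, θ ≠ 0 ∧ θ ≠ 1) ∨ Fintype.card ι ≠ 4 := Or.inr (by omega)
  have hd : dsign Q g = 1 := by
    rw [dsign_def, fix_eq, pow_add, hev.neg_one_pow, mul_one, hg.neg_one_pow]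
  have hi := index_commutator_two Q h2 hQ h4
  obtain ⟨v, hv⟩ : ∃ v, Q v ≠ 0 := by
    by_contra hcon
    push Not at hcon
    obtain ⟨v, hv⟩ := _root_.exists_ne (0 : ι → F)
    apply hv
    apply Cfsg.Agent.LieClassical.OrthCore.nondeg_of_nondegenerate hQ
    intro w
    unfold polar
    rw [hcon, hcon, hcon]
    ring
  by_contra hg'
  have h3 := refl_notMem_commutator Q hQ h4 v hv
  have h6 : g * ClassicalGeometry.Reflection.reflIso Q v hv ∈ commutator (isometryGroup F ⇑Q) := by
    rw [Subgroup.mul_mem_iff_of_index_two hi]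
    exact ⟨fun h => absurd h hg', fun h => absurd h h3⟩
  have h7 := dsign_eq_one_of_mem_commutator Q hQ h4 _ h6
  rw [← dsignHom_apply Q hQ h4, map_mul, dsignHom_apply, dsignHom_apply, hd, dsign_refl Q hQ v hv] at h7
  exact absurd h7 (by decide)

section omega

variable {Q : QuadraticForm F (ι → F)} (hQ : (polarBilin Q).Nondegenerate) (hn : 5 ≤ Fintype.card ι)
  (hs : ∃ u : ι → F, u ≠ 0 ∧ Q u = 0)

include hQ hn hs

theorem center_cases {z : Omega F ⇑Q} (hz : z ∈ Subgroup.center (Omega F ⇑Q)) :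
    (∀ v, opHom (⇑Q) z v = v) ∨ ∀ v, opHom (⇑Q) z v = -v := by
  rcases (mem_center_omega_iff Q hQ (by omega) hs z).1 hz with h | h
  · left
    intro v
    rw [opHom_apply]
    have h1 : ((z : isometryGroup F ⇑Q) : Matrix.GeneralLinearGroup ι F).1 = 1 := h
    rw [h1, Matrix.one_mulVec]
  · right
    intro v
    rw [opHom_apply]
    have h1 : ((z : isometryGroup F ⇑Q) : Matrix.GeneralLinearGroup ι F).1 = -1 := h
    rw [h1, Matrix.neg_mulVec, Matrix.one_mulVec]

theorem center_sq {z : Omega F ⇑Q} (hz : z ∈ Subgroup.center (Omega F ⇑Q)) : z ^ 2 = 1 :=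
  H364.OrthUnip.sq_eq_one_of_center Q hQ (by omega) hs hz

theorem center_two (h2 : (2 : F) = 0) {z : Omega F ⇑Q} (hz : z ∈ Subgroup.center (Omega F ⇑Q)) : z = 1 := by
  apply Subtype.ext
  apply opHom_injective
  rw [OneMemClass.coe_one, map_one]
  apply LinearMap.ext
  intro v
  rcases center_cases hQ hn hs hz with h | h
  · exact h v
  · rw [h v]
    have h3 : v + v = 0 := by rw [← two_smul F v, h2, zero_smul]
    exact neg_eq_of_add_eq_zero_left h3

/-- commuting modulo the centre -/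
theorem comm_center {g X : Omega F ⇑Q} (h : Commute (QuotientGroup.mk g : POmega F ⇑Q) (QuotientGroup.mk X)) :
    g * X * g⁻¹ * X⁻¹ ∈ Subgroup.center (Omega F ⇑Q) := by
  rw [← QuotientGroup.eq_one_iff]
  have h1 : (QuotientGroup.mk (g * X * g⁻¹ * X⁻¹) : POmega F ⇑Q) =
      QuotientGroup.mk g * QuotientGroup.mk X * (QuotientGroup.mk g)⁻¹ * (QuotientGroup.mk X)⁻¹ := rfl
  rw [h1, h.eq]
  group

theorem comm_neg {g X : Omega F ⇑Q} (h : Commute (QuotientGroup.mk g : POmega F ⇑Q) (QuotientGroup.mk X)) :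
    Commute g X ∨ ∀ v, opHom (⇑Q) g (opHom (⇑Q) X v) = - opHom (⇑Q) X (opHom (⇑Q) g v) := by
  set z := g * X * g⁻¹ * X⁻¹ with hz
  have h1 : g * X = z * (X * g) := by rw [hz]; group
  have h3 : ∀ v, opHom (⇑Q) g (opHom (⇑Q) X v) = opHom (⇑Q) z (opHom (⇑Q) X (opHom (⇑Q) g v)) := by
    intro v
    have h4 := congrArg (fun t : Omega F ⇑Q => opHom (⇑Q) (t : isometryGroup F ⇑Q) v) h1
    simpa using h4
  rcases center_cases hQ hn hs (comm_center hQ hn hs h) with h2 | h2
  · left
    have h4 : Commute (g : isometryGroup F ⇑Q) (X : isometryGroup F ⇑Q) := comm_iff.2 fun v => by rw [h3, h2]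
    exact Subtype.ext h4.eq
  · right
    intro v
    rw [h3, h2]

theorem comm_of_odd {g X : Omega F ⇑Q} {N : ℕ} (hN : Odd N) (hg : g ^ N = 1)
    (h : Commute (QuotientGroup.mk g : POmega F ⇑Q) (QuotientGroup.mk X)) : Commute g X := by
  set z := g * X * g⁻¹ * X⁻¹ with hz
  have hzc := comm_center hQ hn hs h
  rw [← hz] at hzc
  have hz2 := center_sq hQ hn hs hzc
  have h1 : g * X * g⁻¹ = z * X := by rw [hz]; group
  have h2 : Commute (g * g) X := by
    have h3 : g * g * X * (g * g)⁻¹ = X := by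
      calc g * g * X * (g * g)⁻¹ = g * (g * X * g⁻¹) * g⁻¹ := by group
        _ = g * (z * X) * g⁻¹ := by rw [h1]
        _ = z * (g * X * g⁻¹) := by
          have := (Subgroup.mem_center_iff.1 hzc) g
          calc g * (z * X) * g⁻¹ = (g * z) * X * g⁻¹ := by group
            _ = (z * g) * X * g⁻¹ := by rw [this]
            _ = z * (g * X * g⁻¹) := by group
        _ = z * (z * X) := by rw [h1]
        _ = X := by rw [← mul_assoc, ← pow_two, hz2, one_mul]
    exact mul_inv_eq_iff_eq_mul.1 h3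
  obtain ⟨k, hk⟩ := hN
  have h4 : g = (g * g) ^ (k + 1) := by
    have h3 : g ^ (N + 1) = g := by rw [pow_succ, hg, one_mul]
    rw [← pow_two, ← pow_mul]
    rw [show 2 * (k + 1) = N + 1 by omega, h3]
  rw [h4]
  exact h2.pow_left _

/-- **the `p`-part of a centralizer order of `PΩ(Q)`** -/
theorem fact_cent [Finite F] {p : ℕ} (hp : p.Prime) [CharP F p] (X : Omega F ⇑Q) :
    (Nat.card (Subgroup.centralizer ({(QuotientGroup.mk X : POmega F ⇑Q)} : Set (POmega F ⇑Q)))).factorization p =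
      (Nat.card (Subgroup.centralizer ({X} : Set (Omega F ⇑Q)))).factorization p := by
  have h2p : p = 2 ∨ Odd p := hp.eq_two_or_odd'
  have h2F : p = 2 → (2 : F) = 0 := by
    rintro rfl
    exact_mod_cast CharP.cast_eq_zero F 2
  set f : Subgroup.centralizer ({X} : Set (Omega F ⇑Q)) →*
      Subgroup.centralizer ({(QuotientGroup.mk X : POmega F ⇑Q)} : Set (POmega F ⇑Q)) :=
    ((QuotientGroup.mk' (Subgroup.center (Omega F ⇑Q))).comp (Subgroup.subtype _)).codRestrict _ (by
      intro g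
      rw [H370.AAM.mem_cent]
      exact (H370.AAM.mem_cent.1 g.2).map (QuotientGroup.mk' (Subgroup.center (Omega F ⇑Q)))) with hf
  have hfin : Finite (Omega F ⇑Q) := inferInstance
  have hfin' : Finite (POmega F ⇑Q) := inferInstance
  symm
  apply fact_hom hp f
  · intro hd
    have := Fact.mk hp
    obtain ⟨⟨⟨g, hg⟩, hg1⟩, hg2⟩ := exists_prime_orderOf_dvd_card' p hd
    rw [Subgroup.orderOf_mk, Subgroup.orderOf_mk] at hg2
    have h1 : g ∈ Subgroup.center (Omega F ⇑Q) := by
      rw [← QuotientGroup.eq_one_iff]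
      exact congrArg Subtype.val (MonoidHom.mem_ker.1 hg1)
    rcases h2p with h | h
    · have := center_two hQ hn hs (h2F h) h1
      rw [this, orderOf_one] at hg2
      exact hp.one_lt.ne hg2
    · have h3 := orderOf_dvd_of_pow_eq_one (center_sq hQ hn hs h1)
      rw [hg2] at h3
      have := (Nat.prime_dvd_prime_iff_eq hp Nat.prime_two).1 h3
      rw [this] at h
      exact absurd h (by decide)
  · rintro ⟨b, hb⟩ j hj
    have hbj : b ^ p ^ j = 1 := congrArg Subtype.val hj
    have hbX := H370.AAM.mem_cent.1 hb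
    rcases h2p with h | h
    · obtain ⟨g, rfl⟩ := QuotientGroup.mk_surjective b
      have h3 : Commute g X := by
        have h4 := center_two hQ hn hs (h2F h) (comm_center hQ hn hs hbX)
        rw [mul_inv_eq_one, mul_inv_eq_iff_eq_mul] at h4
        exact h4
      exact ⟨⟨g, H370.AAM.mem_cent.2 h3⟩, rfl⟩
    · have hodd : Odd (orderOf b) := Odd.of_dvd_nat (h.pow) (orderOf_dvd_of_pow_eq_one hbj)
      obtain ⟨g, rfl, hgo⟩ := exists_lift Q hQ (by omega) hs hodd rfl
      have h3 : Commute g X := comm_of_odd hQ hn hs hodd (hgo ▸ pow_orderOf_eq_one g) hbX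
      exact ⟨⟨g, H370.AAM.mem_cent.2 h3⟩, rfl⟩

/-- equal centralizers -/
theorem card_cent_eq [Finite F] {X X' : Omega F ⇑Q}
    (h1 : ∀ g : Omega F ⇑Q, Commute (QuotientGroup.mk g : POmega F ⇑Q) (QuotientGroup.mk X) → Commute g X)
    (h2 : ∀ g : Omega F ⇑Q, Commute (QuotientGroup.mk g : POmega F ⇑Q) (QuotientGroup.mk X') → Commute g X')
    (h3 : ∀ g : Omega F ⇑Q, Commute g X ↔ Commute g X') :
    Nat.card (Subgroup.centralizer ({(QuotientGroup.mk X : POmega F ⇑Q)} : Set (POmega F ⇑Q))) =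
      Nat.card (Subgroup.centralizer ({(QuotientGroup.mk X' : POmega F ⇑Q)} : Set (POmega F ⇑Q))) := by
  have key : Subgroup.centralizer ({(QuotientGroup.mk X : POmega F ⇑Q)} : Set (POmega F ⇑Q)) =
      Subgroup.centralizer ({(QuotientGroup.mk X' : POmega F ⇑Q)} : Set (POmega F ⇑Q)) := by
    ext b
    obtain ⟨g, rfl⟩ := QuotientGroup.mk_surjective b
    rw [H370.AAM.mem_cent, H370.AAM.mem_cent]
    constructor
    · intro h
      exact ((h3 g).1 (h1 g h)).map (QuotientGroup.mk' (Subgroup.center (Omega F ⇑Q)))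
    · intro h
      exact ((h3 g).2 (h2 g h)).map (QuotientGroup.mk' (Subgroup.center (Omega F ⇑Q)))
  rw [key]

end omega

end Cfsg.Agent.H783.CS
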