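import Mathlib
import Cfsg.Agent.H783.CS.Iso

/-!
# S3677: elements of `Ω(Q)` commuting with `y`, `V = W ⊥ C` (helper783)
-/

set_option autoImplicit false
set_option linter.unusedSectionVars false
set_option linter.style.haveILetI false

namespace Cfsg.Agent.H783.CS

open Module QuadraticMap Cfsg
open Cfsg.Agent.H420.Lift (opHom opHom_apply opHom_injective opHom_iso opHom_eq_one_iff exists_lift)

theorem fix_of_pow {F : Type*} [Field F] {V : Type*} [AddCommGroup V] [Module F V] {T : Module.End F V} {v : V}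
    {M N : ℕ} (hM : T ^ M = 1) (hMN : Nat.Coprime M N) (hN : (T ^ N) v = v) : T v = v := by
  have h1 : Function.IsPeriodicPt T M v := by
    rw [Function.IsPeriodicPt, Function.IsFixedPt, ← Module.End.coe_pow, hM]
    rfl
  have h2 : Function.IsPeriodicPt T N v := by
    rw [Function.IsPeriodicPt, Function.IsFixedPt, ← Module.End.coe_pow, hN]
  have h3 := h1.gcd h2
  rw [hMN] at h3
  exact h3

variable {F : Type*} [Field F] [Finite F] {ι : Type} [Fintype ι] [DecidableEq ι]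
  {K : Type*} [Field K] [Finite K] [Algebra F K]

/-- the data attached to `y` -/
structure Dat (Q : QuadraticForm F (ι → F)) (y : isometryGroup F ⇑Q) (W C : Submodule F (ι → F)) (e₁ e₂ : ι → F)
    (φ : K →ₐ[F] Module.End F W) : Prop where
  geo : Geo Q W C e₁ e₂
  hW : W = LinearMap.range (opHom (⇑Q) y - 1)
  hC : C = LinearMap.ker (opHom (⇑Q) y - 1)
  cen : ∀ A : Module.End F (ι → F), (∀ v, A (opHom (⇑Q) y v) = opHom (⇑Q) y (A v)) → ∃ a : K, ∀ w : W, A w = φ a w
  ev : Even (finrank F W)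
  nt : Nontrivial W
  hQ : (polarBilin Q).Nondegenerate
  hn : 6 ≤ Fintype.card ι
  hev : Even (Fintype.card ι)

namespace Dat

variable {Q : QuadraticForm F (ι → F)} {y : isometryGroup F ⇑Q} {W C : Submodule F (ι → F)} {e₁ e₂ : ι → F}
  {φ : K →ₐ[F] Module.End F W} (D : Dat Q y W C e₁ e₂ φ)

include D

theorem keep {g : Module.End F (ι → F)} (hg : ∀ v, g (opHom (⇑Q) y v) = opHom (⇑Q) y (g v)) :
    (∀ v ∈ W, g v ∈ W) ∧ ∀ v ∈ C, g v ∈ C := by
  rw [D.hW, D.hC]
  exact H150.range_inv fun v => (hg v).symm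

/-- elements of `Ω` commuting with `y` -/
theorem lift {X : isometryGroup F ⇑Q} (hX : X ∈ Omega F ⇑Q) (hXy : Commute X y) :
    ∃ a : K, (∀ w : W, opHom (⇑Q) X w = φ a w) ∧ Dg e₁ e₂ (opHom (⇑Q) X) := by
  have hnt := D.nt
  have h1 := comm_iff.1 hXy
  obtain ⟨a, ha⟩ := D.cen _ h1
  obtain ⟨hW, hC⟩ := D.keep h1
  refine ⟨a, ha, D.geo.dg_of_even (opHom_iso _ X) hC ?_⟩
  have h2 := even_fix D.hQ (by have := D.hn; omega) D.hev hX
  rw [D.geo.fix_split hW hC] at h2
  refine (Nat.even_add.1 h2).1 ?_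
  by_cases ha1 : a = 1
  · have h3 : (LinearMap.ker (opHom (⇑Q) X - 1) ⊓ W : Submodule F (ι → F)) = W := by
      rw [inf_eq_right]
      intro w hw
      rw [LinearMap.mem_ker, LinearMap.sub_apply, Module.End.one_apply, ha ⟨w, hw⟩, ha1, map_one]
      exact sub_self w
    rw [h3]
    exact D.ev
  · have h3 : (LinearMap.ker (opHom (⇑Q) X - 1) ⊓ W : Submodule F (ι → F)) = ⊥ := by
      rw [eq_bot_iff]
      rintro w ⟨hw1, hw2⟩
      rw [SetLike.mem_coe, LinearMap.mem_ker, LinearMap.sub_apply, Module.End.one_apply, ha ⟨w, hw2⟩] at hw1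
      have h4 : φ (a - 1) ⟨w, hw2⟩ = 0 := by
        apply Subtype.ext
        rw [map_sub, map_one, LinearMap.sub_apply, Module.End.one_apply]
        exact hw1
      exact congrArg Subtype.val (inv_smul (sub_ne_zero.2 ha1) h4)
    rw [h3, finrank_bot]
    exact Even.zero

/-- type B: elements of `Ω` commuting with `X` -/
theorem typeB {X : isometryGroup F ⇑Q} {a : K} (ha : ∀ w : W, opHom (⇑Q) X w = φ a w)
    (hna : ∀ l : F, a ≠ algebraMap F K l) (hX : Dg e₁ e₂ (opHom (⇑Q) X)) {g : isometryGroup F ⇑Q}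
    (hg : g ∈ Omega F ⇑Q) (hgX : Commute g X) :
    (∀ v ∈ W, opHom (⇑Q) g v ∈ W) ∧ (∀ v ∈ C, opHom (⇑Q) g v ∈ C) ∧ Dg e₁ e₂ (opHom (⇑Q) g) := by
  have hnt := D.nt
  have h1 := comm_iff.1 hgX
  have hC := D.geo.canon (g := opHom (⇑Q) g) ha hna hX (ε := 1) one_ne_zero (fun v => by rw [one_smul]; exact h1 v)
  have hW := D.geo.keepW (opHom_iso _ g) hC
  refine ⟨hW, hC, ?_⟩
  have hXC : ∀ v ∈ C, opHom (⇑Q) X v ∈ C := fun v hv => D.geo.dg_keep hX hv
  have hXW := D.geo.keepW (opHom_iso _ X) hXC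
  obtain ⟨k, m, -, -, -, hk, -⟩ := D.geo.count (opHom_iso _ X) hXW ha hna
  exact D.geo.dg_of_fix ha (by rw [hk]; exact even_two_mul k) (opHom_iso _ g) hC h1
    (even_fix D.hQ (by have := D.hn; omega) D.hev hg)

/-- type B: elements with the same degree have the same centralizer in `Ω` -/
theorem same {X X' : isometryGroup F ⇑Q} {a a' : K} (ha : ∀ w : W, opHom (⇑Q) X w = φ a w)
    (hna : ∀ l : F, a ≠ algebraMap F K l) (hX : Dg e₁ e₂ (opHom (⇑Q) X)) (ha' : ∀ w : W, opHom (⇑Q) X' w = φ a' w)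
    (hX' : Dg e₁ e₂ (opHom (⇑Q) X')) (hd : (minpoly F a).natDegree = (minpoly F a').natDegree)
    {g : isometryGroup F ⇑Q} (hg : g ∈ Omega F ⇑Q) (hgX : Commute g X) : Commute g X' := by
  obtain ⟨P, hP⟩ := exists_poly hd
  obtain ⟨hW, -, hgd⟩ := D.typeB ha hna hX hg hgX
  exact comm_iff.2 (D.geo.same ha ha' hP hX' hgd hW (comm_iff.1 hgX))

/-- type A: operators commuting with `X` preserve `W` -/
theorem typeA {X : isometryGroup F ⇑Q} {l : F} (hl : ∀ w ∈ W, opHom (⇑Q) X w = l • w)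
    (hX : Dg e₁ e₂ (opHom (⇑Q) X)) (hXl : ∃ v, opHom (⇑Q) X v ≠ l • v) {g : isometryGroup F ⇑Q} (hgX : Commute g X) :
    (∀ v ∈ W, opHom (⇑Q) g v ∈ W) ∧ (∀ v ∈ C, opHom (⇑Q) g v ∈ C) ∧
      ∃ m : F, m ≠ 0 ∧ opHom (⇑Q) X e₁ = m • e₁ ∧ opHom (⇑Q) X e₂ = m⁻¹ • e₂ ∧ m ≠ l ∧ polar Q e₁ e₂ = 1 := by
  have hnt := D.nt
  have h1 := comm_iff.1 hgX
  have hl1 := D.geo.scalar (opHom_iso _ X) hl
  have hll : l * l = 1 := by rcases hl1 with h | h <;> rw [h] <;> ring
  obtain ⟨m, hm, h3, h4⟩ := hX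
  have hml : m ≠ l ∧ polar Q e₁ e₂ = 1 := by
    obtain ⟨v, hv⟩ := hXl
    constructor
    · rintro rfl
      apply hv
      obtain ⟨w, hw, c, hc, rfl⟩ := D.geo.ex v
      obtain ⟨x, z, rfl⟩ := D.geo.memC hc
      have hinv : m⁻¹ = m := inv_eq_of_mul_eq_one_right hll
      rw [hinv] at h4
      simp only [map_add, map_smul, hl w hw, h3, h4, smul_add, smul_smul]
      rw [mul_comm x m, mul_comm z m]
    · rcases D.geo.pr with hp | ⟨h5, h6⟩
      · exact hp
      · exfalso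
        apply hv
        obtain ⟨w, hw, c, hc, rfl⟩ := D.geo.ex v
        obtain ⟨x, z, rfl⟩ := D.geo.memC hc
        rw [h5, h6]
        simp [hl w hw]
  have hW : ∀ v ∈ W, opHom (⇑Q) g v ∈ W := by
    intro v hv
    have h5 : opHom (⇑Q) X (opHom (⇑Q) g v) = l • opHom (⇑Q) g v := by
      rw [← h1, hl v hv, map_smul]
    obtain ⟨w, hw, c, hc, hwc⟩ := D.geo.ex (opHom (⇑Q) g v)
    rw [hwc] at h5 ⊢
    obtain ⟨x, z, rfl⟩ := D.geo.memC hc
    have h6 : x • (m • e₁) + z • (m⁻¹ • e₂) = l • (x • e₁ + z • e₂) := by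
      rw [map_add, hl w hw, smul_add] at h5
      have h7 := add_left_cancel h5
      rwa [map_add, map_smul, map_smul, h3, h4] at h7
    have hinv : m⁻¹ ≠ l := by
      intro h
      apply hml.1
      rw [← inv_inv m, h]
      exact inv_eq_of_mul_eq_one_right hll
    have e11 : polar Q e₁ e₁ = 0 := by
      rw [polar_self]; simp [D.geo.q1]
    have e22 : polar Q e₂ e₂ = 0 := by
      rw [polar_self]; simp [D.geo.q2]
    have e21 : polar Q e₂ e₁ = 1 := by rw [polar_comm]; exact hml.2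
    have hx : x = 0 := by
      have h8 := congrArg (fun v => polar Q v e₂) h6
      simp only [polar_add_left, polar_smul_left, e22, hml.2, smul_eq_mul, mul_zero, add_zero, mul_one] at h8
      have h9 : x * (m - l) = 0 := by linear_combination h8
      exact (mul_eq_zero.1 h9).resolve_right (sub_ne_zero.2 hml.1)
    have hz : z = 0 := by
      have h8 := congrArg (fun v => polar Q v e₁) h6
      simp only [polar_add_left, polar_smul_left, e11, e21, smul_eq_mul, mul_zero, zero_add, mul_one] at h8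
      have h9 : z * (m⁻¹ - l) = 0 := by linear_combination h8
      exact (mul_eq_zero.1 h9).resolve_right (sub_ne_zero.2 hinv)
    rw [hx, hz, zero_smul, zero_smul, add_zero, add_zero]
    exact hw
  exact ⟨hW, D.geo.keepC (opHom_iso _ g) hW, m, hm, h3, h4, hml.1, hml.2⟩

/-- **the `p`-elements of the centralizers fix `C`** -/
theorem pelem {p : ℕ} (hp : p.Prime) [CharP F p] {X : isometryGroup F ⇑Q} (hXΩ : X ∈ Omega F ⇑Q) (hXy : Commute X y)
    (hX1 : ∀ l : F, ∃ v, opHom (⇑Q) X v ≠ l • v) {g : isometryGroup F ⇑Q} (hg : g ∈ Omega F ⇑Q) (hgX : Commute g X)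
    {j : ℕ} (hj : g ^ p ^ j = 1) :
    (∀ v ∈ W, opHom (⇑Q) g v ∈ W) ∧ ∀ v ∈ C, opHom (⇑Q) g v = v := by
  have hnt := D.nt
  have hFt := Fintype.ofFinite F
  have hqp : ∃ f : ℕ, 0 < f ∧ Nat.card F = p ^ f := by
    obtain ⟨f, -, hf⟩ := FiniteField.card F p
    exact ⟨f, f.2, by rw [Nat.card_eq_fintype_card]; exact hf⟩
  obtain ⟨f, hf0, hf⟩ := hqp
  set N := Nat.card F - 1 with hN
  have hN1 : ∀ l : F, l ≠ 0 → l ^ N = 1 := by
    intro l hl
    rw [hN, Nat.card_eq_fintype_card]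
    exact FiniteField.pow_card_sub_one_eq_one l hl
  have hpN : ¬ p ∣ N := by
    intro hd
    have h1 : p ∣ Nat.card F := by rw [hf]; exact dvd_pow_self p hf0.ne'
    have h2 : 1 ≤ Nat.card F := Nat.card_pos
    have h3 : p ∣ 1 := by
      have := Nat.dvd_sub h1 hd
      rwa [hN, Nat.sub_sub_self h2] at this
    exact hp.one_lt.ne' (Nat.dvd_one.1 h3)
  have hgT : (opHom (⇑Q) g) ^ p ^ j = 1 := by rw [← map_pow, hj, map_one]
  have hcop : Nat.Coprime (p ^ j) N := Nat.Coprime.pow_left j ((Nat.Prime.coprime_iff_not_dvd hp).2 hpN)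
  obtain ⟨a, ha, hXd⟩ := D.lift hXΩ hXy
  -- it suffices to know that `g` preserves `W` and `C`, and is diagonal in characteristic two
  have key : (∀ v ∈ W, opHom (⇑Q) g v ∈ W) → (∀ v ∈ C, opHom (⇑Q) g v ∈ C) → (p = 2 → Dg e₁ e₂ (opHom (⇑Q) g)) →
      (∀ v ∈ W, opHom (⇑Q) g v ∈ W) ∧ ∀ v ∈ C, opHom (⇑Q) g v = v := by
    intro hW hC hd
    refine ⟨hW, fun v hv => ?_⟩
    by_cases h2 : p = 2
    · exact fix_of_pow hgT hcop (D.geo.dg_pow (hd h2) N hN1 hv)
    · have hcop' : Nat.Coprime (p ^ j) (2 * N) := by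
        apply Nat.Coprime.mul_right _ hcop
        exact Nat.Coprime.pow_left j ((Nat.coprime_primes hp Nat.prime_two).2 h2)
      exact fix_of_pow hgT hcop' (D.geo.pow_two_mul (opHom_iso _ g) hC N hN1 hv)
  by_cases hA : ∃ l : F, a = algebraMap F K l
  · obtain ⟨l, rfl⟩ := hA
    have hl : ∀ w ∈ W, opHom (⇑Q) X w = l • w := by
      intro w hw
      rw [ha ⟨w, hw⟩, AlgHom.commutes]
      rfl
    obtain ⟨hW, hC, m, hm, h3, h4, hml, hpr⟩ := D.typeA hl hXd (hX1 l) hgX
    refine key hW hC fun h2 => ?_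
    subst h2
    have h2F : (2 : F) = 0 := by exact_mod_cast CharP.cast_eq_zero F 2
    rcases D.geo.dg_or_sw (opHom_iso _ g) hC with hd | ⟨c, hc, h5, h6⟩
    · exact hd
    · exfalso
      have h7 := (comm_iff.1 hgX) e₁
      rw [h3, map_smul, h5, map_smul, h4, smul_smul, smul_smul] at h7
      have h8 : m * c = c * m⁻¹ := by
        have e22 : polar Q e₁ e₂ = 1 := hpr
        have h9 := congrArg (fun v => polar Q e₁ v) h7
        simp only [polar_smul_right, e22, smul_eq_mul, mul_one] at h9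
        exact h9
      have h9 : m = m⁻¹ := by
        have h10 : c * (m - m⁻¹) = 0 := by linear_combination h8
        exact sub_eq_zero.1 ((mul_eq_zero.1 h10).resolve_left hc)
      have h10 : m * m = 1 := by
        nth_rewrite 1 [h9]
        exact inv_mul_cancel₀ hm
      have hl1 := D.geo.scalar (opHom_iso _ X) hl
      have hneg : (-1 : F) = 1 := by
        rw [neg_eq_iff_add_eq_zero, one_add_one_eq_two, h2F]
      have hl2 : l = 1 := by
        rcases hl1 with h | h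
        · exact h
        · rw [h, hneg]
      have hm1 : m = 1 := by
        rcases mul_self_eq_one_iff.1 h10 with h | h
        · exact h
        · rw [h, hneg]
      exact hml (hm1.trans hl2.symm)
  · have hna : ∀ l : F, a ≠ algebraMap F K l := fun l h => hA ⟨l, h⟩
    obtain ⟨hW, hC, hd⟩ := D.typeB ha hna hXd hg hgX
    exact key hW hC fun _ => hd

end Dat

end Cfsg.Agent.H783.CS
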