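import Mathlib
import Cfsg.Agent.H783.CS.Core

/-!
# S3677: the `p`-parts of the centralizers (helper783)
-/

set_option autoImplicit false
set_option linter.unusedSectionVars false
set_option linter.style.haveILetI false

namespace Cfsg.Agent.H783.CS

open Module QuadraticMap Cfsg
open Cfsg.Agent.H420.Lift (opHom opHom_apply opHom_injective opHom_iso opHom_eq_one_iff exists_lift)

variable {F : Type*} [Field F] [Finite F] {ι : Type} [Fintype ι] [DecidableEq ι]
  {K : Type*} [Field K] [Finite K] [Algebra F K]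

/-- the isometries fixing `C` pointwise -/
def fixC (Q : QuadraticForm F (ι → F)) (C : Submodule F (ι → F)) : Subgroup (isometryGroup F ⇑Q) where
  carrier := {g | ∀ v ∈ C, opHom (⇑Q) g v = v}
  mul_mem' {g h} hg hh := by
    intro v hv
    rw [map_mul, Module.End.mul_apply, hh v hv, hg v hv]
  one_mem' := by
    intro v _
    rw [map_one]
    rfl
  inv_mem' {g} hg := by
    intro v hv
    have h1 : opHom (⇑Q) g⁻¹ (opHom (⇑Q) g v) = v := by
      rw [← Module.End.mul_apply, ← map_mul, inv_mul_cancel, map_one]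
      rfl
    rwa [hg v hv] at h1

theorem mem_fixC {Q : QuadraticForm F (ι → F)} {C : Submodule F (ι → F)} {g : isometryGroup F ⇑Q} :
    g ∈ fixC Q C ↔ ∀ v ∈ C, opHom (⇑Q) g v = v := Iff.rfl

/-- those commuting with `X` -/
def fixer (Q : QuadraticForm F (ι → F)) (C : Submodule F (ι → F)) (X : isometryGroup F ⇑Q) :
    Subgroup (isometryGroup F ⇑Q) := fixC Q C ⊓ Subgroup.centralizer {X}

theorem mem_fixer {Q : QuadraticForm F (ι → F)} {C : Submodule F (ι → F)} {g X : isometryGroup F ⇑Q} :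
    g ∈ fixer Q C X ↔ (∀ v ∈ C, opHom (⇑Q) g v = v) ∧ Commute g X := by
  rw [fixer, Subgroup.mem_inf, mem_fixC, H370.AAM.mem_cent]

namespace Dat

variable {Q : QuadraticForm F (ι → F)} {y : isometryGroup F ⇑Q} {W C : Submodule F (ι → F)} {e₁ e₂ : ι → F}
  {φ : K →ₐ[F] Module.End F W} (D : Dat Q y W C e₁ e₂ φ)

include D

theorem card_fixer {X : isometryGroup F ⇑Q} (hXW : ∀ v ∈ W, opHom (⇑Q) X v ∈ W) {a : K}
    (ha : ∀ w : W, opHom (⇑Q) X w = φ a w) (ha1 : a ≠ 1) (hXC : ∀ v ∈ C, opHom (⇑Q) X v ∈ C) :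
    Nat.card (fixer Q C X) = Nat.card {g : W ≃ₗ[F] W //
      (∀ u v : W, polar Q (g u : ι → F) (g v) = polar Q (u : ι → F) v) ∧
        ∀ v, g (resW D.geo (opHom_iso _ X) hXW v) = resW D.geo (opHom_iso _ X) hXW (g v)} := by
  have hkeep : ∀ g : fixer Q C X, ∀ v ∈ W, opHom (⇑Q) g.1 v ∈ W := fun g =>
    D.geo.keepW (opHom_iso _ g.1) fun v hv => by
      rw [(mem_fixer.1 g.2).1 v hv]
      exact hv
  refine Nat.card_eq_of_bijective (fun g => ⟨resW D.geo (opHom_iso _ g.1) (hkeep g), ?_, ?_⟩) ⟨?_, ?_⟩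
  · intro u v
    exact polar_iso (opHom_iso _ g.1) u v
  · intro v
    apply Subtype.ext
    rw [resW_apply, resW_apply, resW_apply, resW_apply]
    exact comm_iff.1 (mem_fixer.1 g.2).2 v
  · intro g g' hgg
    apply Subtype.ext
    apply opHom_injective
    apply D.geo.ext_on
    · intro v hv
      have h1 := congrArg (fun t => ((t.1 ⟨v, hv⟩ : W) : ι → F)) hgg
      exact h1
    · intro v hv
      rw [(mem_fixer.1 g.2).1 v hv, (mem_fixer.1 g'.2).1 v hv]
  · rintro ⟨t, ht1, ht2⟩
    have hXt : ∀ w : W, opHom (⇑Q) X (t w) = t ⟨opHom (⇑Q) X w, hXW w w.2⟩ := by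
      intro w
      have h1 := congrArg Subtype.val (ht2 w)
      rw [resW_apply] at h1
      rw [← h1]
      rfl
    -- `t` preserves `Q`
    have hQt : ∀ w : W, Q (t w : ι → F) = Q (w : ι → F) := by
      intro w
      obtain ⟨u, hu⟩ := surj_smul (φ := φ) (sub_ne_zero.2 ha1) w
      have h1 : (w : ι → F) = opHom (⇑Q) X u - u := by
        rw [← hu, map_sub, map_one, LinearMap.sub_apply, Module.End.one_apply, Submodule.coe_sub, ha]
      have h1' : w = ⟨opHom (⇑Q) X u, hXW u u.2⟩ - u := Subtype.ext h1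
      have h2 : (t w : ι → F) = opHom (⇑Q) X (t u) - t u := by
        rw [h1', map_sub, Submodule.coe_sub, hXt]
      have h3 : ∀ x z : ι → F, Q (x - z) = Q x + Q z - polar Q x z := by
        intro x z
        have h4 := polar_neg_right Q x z
        rw [← neg_eq_iff_eq_neg] at h4
        rw [← h4]
        unfold polar
        rw [QuadraticMap.map_neg, ← sub_eq_add_neg]
        ring
      rw [h2, h1, h3, h3, opHom_iso (⇑Q), opHom_iso (⇑Q), hXt, ht1]
      have h5 : 2 * Q (t u : ι → F) = 2 * Q (u : ι → F) := by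
        have h6 := ht1 u u
        rw [polar_self, polar_self] at h6
        simpa using h6
      linear_combination h5
    set T : Module.End F (ι → F) := LinearMap.ofIsCompl D.geo.ic (W.subtype ∘ₗ t.toLinearMap) C.subtype with hT
    have hTW : ∀ w : W, T w = t w := fun w => LinearMap.ofIsCompl_apply_left D.geo.ic w
    have hTC : ∀ v ∈ C, T v = v := fun v hv => LinearMap.ofIsCompl_apply_right D.geo.ic ⟨v, hv⟩
    have hTQ : ∀ v, Q (T v) = Q v := by
      intro v
      obtain ⟨w, hw, c, hc, rfl⟩ := D.geo.ex v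
      have h3 : ∀ x z : ι → F, Q (x + z) = Q x + Q z + polar Q x z := by
        intro x z
        unfold polar
        ring
      rw [map_add, hTW ⟨w, hw⟩, hTC c hc, h3, h3, hQt, D.geo.perp _ (t ⟨w, hw⟩).2 c hc, D.geo.perp w hw c hc]
    obtain ⟨g, hg⟩ := exists_isom Q hTQ (D.geo.inj hTQ)
    have hgm : g ∈ fixer Q C X := by
      rw [mem_fixer]
      refine ⟨fun v hv => by rw [hg]; exact hTC v hv, ?_⟩
      rw [comm_iff]
      rw [hg]
      have key : T * opHom (⇑Q) X = opHom (⇑Q) X * T := by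
        apply D.geo.ext_on
        · intro v hv
          change T (opHom (⇑Q) X v) = opHom (⇑Q) X (T v)
          rw [hTW ⟨v, hv⟩, hXt, ← hTW]
        · intro v hv
          change T (opHom (⇑Q) X v) = opHom (⇑Q) X (T v)
          rw [hTC v hv, hTC _ (hXC v hv)]
      exact fun v => LinearMap.congr_fun key v
    refine ⟨⟨g, hgm⟩, ?_⟩
    apply Subtype.ext
    apply LinearEquiv.ext
    intro w
    apply Subtype.ext
    rw [resW_apply]
    change opHom (⇑Q) g w = _
    rw [hg, hTW]

theorem evC : Even (finrank F C) := by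
  have h1 := Submodule.finrank_add_eq_of_isCompl D.geo.ic
  have h2 := D.hev
  rw [Module.finrank_fintype_fun_eq_card] at h1
  rw [← h1] at h2
  exact (Nat.even_add.1 h2).1 D.ev

/-- **type B: the `p`-part of the centralizer in `Ω`** -/
theorem factB {p : ℕ} (hp : p.Prime) [CharP F p] {X : Omega F ⇑Q} (hXy : Commute (X : isometryGroup F ⇑Q) y)
    {a : K} (ha : ∀ w : W, opHom (⇑Q) (X : isometryGroup F ⇑Q) w = φ a w) (hna : ∀ l : F, a ≠ algebraMap F K l) :
    (Nat.card (Subgroup.centralizer ({X} : Set (Omega F ⇑Q)))).factorization p =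
      (Nat.card (fixer Q C (X : isometryGroup F ⇑Q))).factorization p := by
  have hnt := D.nt
  obtain ⟨hXW, hXC⟩ := D.keep (comm_iff.1 hXy)
  obtain ⟨k, m, -, -, -, hk, -⟩ := D.geo.count (opHom_iso _ X) hXW ha hna
  have h1 : Nat.card (Subgroup.centralizer ({X} : Set (Omega F ⇑Q))) =
      Nat.card ((Subgroup.centralizer ({X} : Set (Omega F ⇑Q))).map (Omega F ⇑Q).subtype) :=
    Nat.card_congr ((Subgroup.centralizer ({X} : Set (Omega F ⇑Q))).equivMapOfInjective _
      (Omega F ⇑Q).subtype_injective).toEquiv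
  rw [h1]
  apply le_antisymm
  · apply fact_le hp
    rintro _ ⟨g, hg, rfl⟩ j hj
    rw [SetLike.mem_coe, H370.AAM.mem_cent] at hg
    have hgX : Commute (g : isometryGroup F ⇑Q) X := hg.map (Omega F ⇑Q).subtype
    refine mem_fixer.2 ⟨?_, hgX⟩
    refine (D.pelem hp X.2 hXy ?_ g.2 hgX hj).2
    intro l
    by_contra hcon
    push Not at hcon
    obtain ⟨w, hw⟩ := _root_.exists_ne (0 : W)
    have h2 : φ (a - algebraMap F K l) w = 0 := by
      apply Subtype.ext
      rw [map_sub, AlgHom.commutes, LinearMap.sub_apply, Submodule.coe_sub, ← ha, hcon]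
      exact sub_self _
    exact hw (inv_smul (sub_ne_zero.2 (hna l)) h2)
  · apply fact_le hp
    intro g hg j hj
    obtain ⟨hgC, hgX⟩ := mem_fixer.1 hg
    have hC' : ∀ v ∈ C, opHom (⇑Q) g v ∈ C := fun v hv => by rw [hgC v hv]; exact hv
    have hgΩ : g ∈ Omega F ⇑Q := by
      rcases hp.eq_two_or_odd' with h2 | h2
      · subst h2
        have h2F : (2 : F) = 0 := by exact_mod_cast CharP.cast_eq_zero F 2
        apply mem_omega_of_even h2F D.hQ (by have := D.hn; omega) D.hev
        rw [D.geo.fix_split (D.geo.keepW (opHom_iso _ g) hC') hC']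
        apply Even.add
        · obtain ⟨c, hc⟩ := D.geo.dvd_fix ha (comm_iff.1 hgX)
          rw [hc, hk, mul_assoc]
          exact even_two_mul _
        · have h3 : (LinearMap.ker (opHom (⇑Q) g - 1) ⊓ C : Submodule F (ι → F)) = C := by
            rw [inf_eq_right]
            intro v hv
            rw [LinearMap.mem_ker, LinearMap.sub_apply, Module.End.one_apply, hgC v hv, sub_self]
          rw [h3]
          exact D.evC
      · exact mem_omega_of_odd D.hQ (by have := D.hn; omega) (h2.pow (n := j)) hj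
    exact ⟨⟨g, hgΩ⟩, H370.AAM.mem_cent.2 (Subtype.ext hgX.eq), rfl⟩

/-- the `p`-part of the centralizer in `Ω` of any nonscalar element commuting with `y` -/
theorem fact_le_fixC {p : ℕ} (hp : p.Prime) [CharP F p] {X : Omega F ⇑Q} (hXy : Commute (X : isometryGroup F ⇑Q) y)
    (hX1 : ∀ l : F, ∃ v, opHom (⇑Q) (X : isometryGroup F ⇑Q) v ≠ l • v) :
    (Nat.card (Subgroup.centralizer ({X} : Set (Omega F ⇑Q)))).factorization p ≤
      (Nat.card (fixC Q C)).factorization p := by
  have h1 : Nat.card (Subgroup.centralizer ({X} : Set (Omega F ⇑Q))) =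
      Nat.card ((Subgroup.centralizer ({X} : Set (Omega F ⇑Q))).map (Omega F ⇑Q).subtype) :=
    Nat.card_congr ((Subgroup.centralizer ({X} : Set (Omega F ⇑Q))).equivMapOfInjective _
      (Omega F ⇑Q).subtype_injective).toEquiv
  rw [h1]
  apply fact_le hp
  rintro _ ⟨g, hg, rfl⟩ j hj
  rw [SetLike.mem_coe, H370.AAM.mem_cent] at hg
  have hgX : Commute (g : isometryGroup F ⇑Q) X := hg.map (Omega F ⇑Q).subtype
  exact mem_fixC.2 (D.pelem hp X.2 hXy hX1 g.2 hgX hj).2

/-- **type A is maximal** -/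
theorem factA {p : ℕ} (hp : p.Prime) [CharP F p] {X X' : Omega F ⇑Q} (hXy : Commute (X : isometryGroup F ⇑Q) y)
    {l : F} (hl : ∀ w ∈ W, opHom (⇑Q) (X : isometryGroup F ⇑Q) w = l • w)
    (hXy' : Commute (X' : isometryGroup F ⇑Q) y)
    (hX1 : ∀ l : F, ∃ v, opHom (⇑Q) (X' : isometryGroup F ⇑Q) v ≠ l • v) :
    (Nat.card (Subgroup.centralizer ({X'} : Set (Omega F ⇑Q)))).factorization p ≤
      (Nat.card (Subgroup.centralizer ({X} : Set (Omega F ⇑Q)))).factorization p := by
  apply fact_le hp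
  intro g hg j hj
  rw [H370.AAM.mem_cent] at hg ⊢
  have hgX : Commute (g : isometryGroup F ⇑Q) X' := hg.map (Omega F ⇑Q).subtype
  obtain ⟨hW, hC⟩ := D.pelem hp X'.2 hXy' hX1 g.2 hgX (congrArg Subtype.val hj)
  obtain ⟨-, hXC⟩ := D.keep (comm_iff.1 hXy)
  have key : Commute (g : isometryGroup F ⇑Q) X := by
    rw [comm_iff]
    have h1 : opHom (⇑Q) (g : isometryGroup F ⇑Q) * opHom (⇑Q) (X : isometryGroup F ⇑Q) =
        opHom (⇑Q) (X : isometryGroup F ⇑Q) * opHom (⇑Q) (g : isometryGroup F ⇑Q) := by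
      apply D.geo.ext_on
      · intro v hv
        rw [Module.End.mul_apply, Module.End.mul_apply, hl v hv, map_smul, hl _ (hW v hv)]
      · intro v hv
        rw [Module.End.mul_apply, Module.End.mul_apply, hC v hv, hC _ (hXC v hv)]
    exact fun v => LinearMap.congr_fun h1 v
  exact Subtype.ext key.eq

end Dat

/-- the `p`-part of the unitary order -/
theorem fact_formula {p q f k m : ℕ} (hp : p.Prime) (hq : q = p ^ f) (hf : 0 < f) (hk : 0 < k) :
    ((q ^ k) ^ (m * (m - 1) / 2) *
      ∏ i ∈ Finset.range m, (if Even i then (q ^ k) ^ (i + 1) + 1 else (q ^ k) ^ (i + 1) - 1)).factorization p =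
      f * (k * (m * (m - 1) / 2)) := by
  have hpq : p ∣ q ^ k := by
    rw [hq, ← pow_mul]
    exact dvd_pow_self p (by positivity)
  have hq1 : 1 < q ^ k := by
    rw [hq, ← pow_mul]
    exact Nat.one_lt_pow (by positivity) hp.one_lt
  have hprod : ¬ p ∣ ∏ i ∈ Finset.range m, (if Even i then (q ^ k) ^ (i + 1) + 1 else (q ^ k) ^ (i + 1) - 1) := by
    rw [Prime.dvd_finsetProd_iff hp.prime]
    rintro ⟨i, -, hi⟩
    have h1 : p ∣ (q ^ k) ^ (i + 1) := dvd_pow hpq (by omega)
    split_ifs at hi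
    · have := (Nat.dvd_add_right h1).1 hi
      exact hp.one_lt.ne' (Nat.dvd_one.1 this)
    · have h2 : 1 ≤ (q ^ k) ^ (i + 1) := Nat.one_le_pow _ _ (by omega)
      have h3 : p ∣ 1 := by
        have := Nat.dvd_sub h1 hi
        rwa [Nat.sub_sub_self h2] at this
      exact hp.one_lt.ne' (Nat.dvd_one.1 h3)
  have h0 : ∏ i ∈ Finset.range m, (if Even i then (q ^ k) ^ (i + 1) + 1 else (q ^ k) ^ (i + 1) - 1) ≠ 0 := by
    intro h
    rw [h] at hprod
    exact hprod (dvd_zero p)
  rw [Nat.factorization_mul (pow_ne_zero _ (by omega)) h0, Finsupp.add_apply,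
    Nat.factorization_eq_zero_of_not_dvd hprod, add_zero, hq, ← pow_mul, ← pow_mul, hp.factorization_pow,
    Finsupp.single_eq_same]

end Cfsg.Agent.H783.CS
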