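import Mathlib
import Cfsg.Agent.H783.CS.Count
import Cfsg.Agent.H363.CentField

/-!
# S3677: the decomposition attached to an element of order `r` of `Ω(Q)` (helper783)
-/

set_option autoImplicit false
set_option linter.unusedSectionVars false
set_option linter.style.haveILetI false

namespace Cfsg.Agent.H783.CS

open Module QuadraticMap Cfsg
open Cfsg.Agent.H420.Lift (opHom opHom_apply opHom_injective opHom_iso opHom_eq_one_iff exists_lift)

universe u

variable {F : Type u} [Field F] [Finite F] {ι : Type} [Fintype ι] [DecidableEq ι]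

theorem exists_pair {V : Type*} [AddCommGroup V] [Module F V] [FiniteDimensional F V] {Q : QuadraticForm F V}
    {C : Submodule F V} (hC : finrank F C = 2) {u c : V} (hu : u ∈ C) (hc : c ∈ C) (hQu : Q u = 0)
    (huc : polar Q u c ≠ 0) : ∃ e₂ : V, Q e₂ = 0 ∧ polar Q u e₂ = 1 ∧ C = Submodule.span F {u, e₂} := by
  set p := polar Q u c with hp
  set c' := p⁻¹ • c with hc'
  have h1 : polar Q u c' = 1 := by rw [hc', polar_smul_right, smul_eq_mul, ← hp, inv_mul_cancel₀ huc]
  have huu : polar Q u u = 0 := by rw [polar_self]; simp [hQu]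
  have hc'u : polar Q c' u = 1 := by rw [polar_comm]; exact h1
  set e₂ := c' + (-Q c') • u with he
  have he2 : e₂ ∈ C := C.add_mem (C.smul_mem _ hc) (C.smul_mem _ hu)
  have h2 : Q e₂ = 0 := by
    have h3 : ∀ x z : V, Q (x + z) = Q x + Q z + polar Q x z := by
      intro x z
      unfold polar
      ring
    have h4 := h3 c' ((-Q c') • u)
    rw [QuadraticMap.map_smul Q (-Q c') u, hQu, polar_smul_right, hc'u] at h4
    rw [he, h4]
    simp
  have h3 : polar Q u e₂ = 1 := by
    rw [he, polar_add_right, h1, polar_smul_right, huu]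
    simp
  refine ⟨e₂, h2, h3, ?_⟩
  have hli : LinearIndependent F ![u, e₂] := by
    rw [LinearIndependent.pair_iff]
    intro s t hst
    have e22 : polar Q e₂ e₂ = 0 := by rw [polar_self]; simp [h2]
    have e21 : polar Q e₂ u = 1 := by rw [polar_comm]; exact h3
    constructor
    · have := congrArg (fun v => polar Q v e₂) hst
      simp only [polar_add_left, polar_smul_left, e22, h3, polar_zero_left, smul_eq_mul, mul_zero, add_zero,
        mul_one] at this
      exact this
    · have := congrArg (fun v => polar Q v u) hst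
      simp only [polar_add_left, polar_smul_left, huu, e21, polar_zero_left, smul_eq_mul, mul_zero, zero_add,
        mul_one] at this
      exact this
  symm
  have hr : Set.range ![u, e₂] = {u, e₂} := by
    rw [Matrix.range_cons, Matrix.range_cons, Matrix.range_empty, Set.union_empty, Set.singleton_union]
  have h4 := finrank_span_eq_card hli
  rw [hr, Fintype.card_fin] at h4
  apply Submodule.eq_of_le_of_finrank_eq
  · rw [Submodule.span_le]
    rintro v (rfl | hv)
    · exact hu
    · rw [Set.mem_singleton_iff.1 hv]; exact he2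
  · rw [h4, hC]

/-- **the data attached to an element of order `r`** -/
theorem exists_dat {Q : QuadraticForm F (ι → F)} (hQ : (polarBilin Q).Nondegenerate) (hn : 6 ≤ Fintype.card ι) {n : ℕ}
    (hdim : Fintype.card ι = 2 * n) {r : ℕ} (hr : r.Prime) (hrF : (r : F) ≠ 0) {y : isometryGroup F ⇑Q}
    (hy : y ^ r = 1) (hy1 : y ≠ 1) {e : ℕ} (ho : orderOf ((Nat.card F : ℕ) : ZMod r) = 2 * e)
    (he : e = n ∨ e + 1 = n ∧ ∃ u, opHom (⇑Q) y u = u ∧ u ≠ 0 ∧ Q u = 0) :
    ∃ (W C : Submodule F (ι → F)) (e₁ e₂ : ι → F) (K : Type u) (_ : Field K) (_ : Finite K) (_ : Algebra F K)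
      (φ : K →ₐ[F] Module.End F W), Dat Q y W C e₁ e₂ φ ∧ finrank F W = 2 * e ∧ (e = n → C = ⊥) ∧
        (e + 1 = n → polar Q e₁ e₂ = 1) := by
  have hfr := Fact.mk hr
  set s := opHom (⇑Q) y with hs
  have hsr : s ^ r = 1 := by rw [hs, ← map_pow, hy, map_one]
  have hs1 : s ≠ 1 := fun h => hy1 ((opHom_eq_one_iff _).1 h)
  have hnd : ∀ u, (∀ v, polar Q u v = 0) → u = 0 := Cfsg.Agent.LieClassical.OrthCore.nondeg_of_nondegenerate hQ
  set W := LinearMap.range (s - 1) with hW
  set C := LinearMap.ker (s - 1) with hC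
  have hmC : ∀ v, v ∈ C ↔ s v = v := by
    intro v
    rw [hC, LinearMap.mem_ker, LinearMap.sub_apply, Module.End.one_apply, sub_eq_zero]
  have hcompl : IsCompl C W := H150.isCompl_fix hrF s hsr
  have hsum := Submodule.finrank_add_eq_of_isCompl hcompl
  rw [Module.finrank_fintype_fun_eq_card, hdim] at hsum
  have hsW : ∀ v ∈ W, s v ∈ W := (H150.range_inv (x := s) (y := s) fun v => rfl).1
  have hW0 : W ≠ ⊥ := by
    intro h
    rw [hW, LinearMap.range_eq_bot, sub_eq_zero] at h
    exact hs1 h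
  have hnt : Nontrivial W := Submodule.nontrivial_iff_ne_bot.2 hW0
  have hWpos : 0 < finrank F W := Module.finrank_pos
  have hdvd := H150.dvd_finrank_of_fpf_submodule hr s hsr W hsW (H150.fpf_range hrF s hsr)
  rw [ho] at hdvd
  have he3 : 2 ≤ e := by rcases he with h | ⟨h, -⟩ <;> omega
  have hWe : finrank F W = 2 * e := by
    obtain ⟨c, hc⟩ := hdvd
    have hc0 : c ≠ 0 := by rintro rfl; omega
    have hc1 : c < 2 := by
      by_contra hcon
      have h1 : 2 * e * 2 ≤ 2 * e * c := Nat.mul_le_mul_left _ (by omega)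
      have : finrank F W ≤ 2 * n := by omega
      rcases he with h | ⟨h, -⟩ <;> omega
    have : c = 1 := by omega
    rw [hc, this, mul_one]
  -- the field
  have hq1 : 1 ≤ Nat.card F := Nat.card_pos
  have hmod : ∀ d : ℕ, r ∣ Nat.card F ^ d - 1 ↔ 2 * e ∣ d := by
    intro d
    rw [← ho, orderOf_dvd_iff_pow_eq_one, ← Nat.cast_pow, ← sub_eq_zero, ← ZMod.natCast_eq_zero_iff,
      Nat.cast_sub (Nat.one_le_pow _ _ hq1), Nat.cast_one]
  obtain ⟨K, i1, i2, i3, φ, hφ, hcen⟩ := H363.CentField.exists_field (x := s.restrict hsW) hr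
    (H150.restrict_pow_eq_one hsW hsr) (by
      intro h
      obtain ⟨w, hw⟩ := _root_.exists_ne (0 : W)
      apply hw
      apply Subtype.ext
      apply H150.fpf_range hrF s hsr w w.2
      exact congrArg Subtype.val (LinearMap.congr_fun h w)) (by rw [hWe, hmod]) (by
      intro d hd0 hd1 hd
      rw [hmod] at hd
      rw [hWe] at hd1
      exact absurd (Nat.le_of_dvd hd0 hd) (by omega))
  have hcen' : ∀ A : Module.End F (ι → F), (∀ v, A (s v) = s (A v)) → ∃ a : K, ∀ w : W, A w = φ a w := by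
    intro A hA
    have hAW : ∀ v ∈ W, A v ∈ W := (H150.range_inv (x := s) (y := A) fun v => (hA v).symm).1
    obtain ⟨a, ha⟩ := (hcen (A.restrict hAW)).1 (by
      apply LinearMap.ext
      intro w
      apply Subtype.ext
      exact hA w)
    refine ⟨a, fun w => ?_⟩
    rw [ha]
    rfl
  have hperp : ∀ w ∈ W, ∀ c ∈ C, polar Q w c = 0 := by
    intro w hw c hc
    exact H150.ortho_fix' (polarBilin Q) s (fun x z => polar_iso (opHom_iso (⇑Q) y) x z) ((hmC c).1 hc) hw
  -- the plane
  obtain ⟨e₁, e₂, hg, hg1, hg2⟩ : ∃ e₁ e₂ : ι → F, Geo Q W C e₁ e₂ ∧ (e = n → C = ⊥) ∧ (e + 1 = n → polar Q e₁ e₂ = 1) := by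
    rcases he with rfl | ⟨he, u, hu1, hu2, hu3⟩
    · have hC0 : C = ⊥ := by
        rw [← Submodule.finrank_eq_zero (R := F)]
        omega
      refine ⟨0, 0, ⟨hnd, hcompl.symm, hperp, QuadraticMap.map_zero Q, QuadraticMap.map_zero Q, Or.inr ⟨rfl, rfl⟩, ?_⟩,
        fun _ => hC0, fun h => by omega⟩
      rw [hC0]
      simp
    · have huC : u ∈ C := (hmC u).2 hu1
      obtain ⟨c, hc⟩ : ∃ c : C, polar Q u (c : ι → F) ≠ 0 := by
        by_contra hcon
        push Not at hcon
        have h1 := H150.nondeg_ker hrF (polarBilin Q) (fun u hu => hnd u hu) s hsr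
          (fun x z => polar_iso (opHom_iso (⇑Q) y) x z) ⟨u, huC⟩ (fun v => hcon v)
        exact hu2 (congrArg Subtype.val h1)
      obtain ⟨e₂, h1, h2, h3⟩ := exists_pair (Q := Q) (C := C) (by omega) huC c.2 hu3 hc
      exact ⟨u, e₂, ⟨hnd, hcompl.symm, hperp, hu3, h1, Or.inl h2, h3⟩, fun h => by omega, fun _ => h2⟩
  exact ⟨W, C, e₁, e₂, K, i1, i2, i3, φ, ⟨hg, rfl, rfl, hcen', by rw [hWe]; exact even_two_mul e, hnt, hQ, hn,
    by rw [hdim]; exact even_two_mul n⟩, hWe, hg1, hg2⟩

/-- elements of order `r` commuting with `y` are powers of `y` -/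
theorem Dat.uniq {K : Type*} [Field K] [Finite K] [Algebra F K] {Q : QuadraticForm F (ι → F)} {y : isometryGroup F ⇑Q}
    {W C : Submodule F (ι → F)} {e₁ e₂ : ι → F} {φ : K →ₐ[F] Module.End F W} (D : Dat Q y W C e₁ e₂ φ) {r : ℕ}
    (hr : r.Prime) (hy : y ^ r = 1) (hy1 : y ≠ 1) (hrq : ¬ r ∣ Nat.card F - 1) {X : isometryGroup F ⇑Q}
    (hX : X ∈ Omega F ⇑Q) (hXy : Commute X y) (hXr : X ^ r = 1) : ∃ j : ℕ, X = y ^ j := by
  have hfr := Fact.mk hr
  have hnt := D.nt
  have hFt := Fintype.ofFinite F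
  have hinj : Function.Injective φ := φ.toRingHom.injective
  obtain ⟨a, ha, hd⟩ := D.lift hX hXy
  obtain ⟨z, hz⟩ := D.cen (opHom (⇑Q) y) fun v => rfl
  have hpow : ∀ (T : Module.End F (ι → F)) (b : K), (∀ w : W, T w = φ b w) → ∀ (k : ℕ) (w : W), (T ^ k) w = φ (b ^ k) w := by
    intro T b hT k
    induction k with
    | zero => intro w; rw [pow_zero, pow_zero, map_one]; rfl
    | succ k ih =>
      intro w
      rw [pow_succ, Module.End.mul_apply, hT, ih, pow_succ, map_mul]
      rfl
  have hone : ∀ (b : K), (∀ w : W, (w : ι → F) = φ b w) → b = 1 := by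
    intro b hb
    apply hinj
    rw [map_one]
    apply LinearMap.ext
    intro w
    exact Subtype.ext (hb w).symm
  have ha1 : a ^ r = 1 := by
    apply hone
    intro w
    rw [← hpow _ a ha, ← map_pow, hXr, map_one]
    rfl
  have hz1 : z ^ r = 1 := by
    apply hone
    intro w
    rw [← hpow _ z hz, ← map_pow, hy, map_one]
    rfl
  have hyC : ∀ v ∈ C, opHom (⇑Q) y v = v := by
    intro v hv
    rw [D.hC, LinearMap.mem_ker, LinearMap.sub_apply, Module.End.one_apply, sub_eq_zero] at hv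
    exact hv
  have hz0 : z ≠ 1 := by
    rintro rfl
    apply hy1
    apply opHom_injective
    apply D.geo.ext_on
    · intro v hv
      rw [hz ⟨v, hv⟩, map_one, map_one]
      rfl
    · intro v hv
      rw [hyC v hv, map_one]
      rfl
  have hprim : IsPrimitiveRoot z r := by
    rw [IsPrimitiveRoot.iff_orderOf]
    exact orderOf_eq_prime hz1 hz0
  obtain ⟨j, -, hj⟩ := hprim.eq_pow_of_pow_eq_one ha1
  refine ⟨j, ?_⟩
  apply opHom_injective
  rw [map_pow]
  apply D.geo.ext_on
  · intro v hv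
    rw [ha ⟨v, hv⟩, ← hj]
    exact (hpow _ z hz j ⟨v, hv⟩).symm
  · intro v hv
    have h1 : opHom (⇑Q) X v = v := by
      have h2 : (opHom (⇑Q) X) ^ r = 1 := by rw [← map_pow, hXr, map_one]
      apply fix_of_pow h2 ((Nat.Prime.coprime_iff_not_dvd hr).2 hrq)
      apply D.geo.dg_pow hd _ _ hv
      intro l hl
      rw [Nat.card_eq_fintype_card]
      exact FiniteField.pow_card_sub_one_eq_one l hl
    rw [h1]
    have h3 : ∀ k : ℕ, ((opHom (⇑Q) y) ^ k) v = v := by
      intro k
      induction k with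
      | zero => rfl
      | succ k ih => rw [pow_succ, Module.End.mul_apply, hyC v hv, ih]
    rw [h3]

end Cfsg.Agent.H783.CS
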