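import Mathlib
import Cfsg.Agent.H783.CS.Count
import Cfsg.Agent.LieClassical.PomegaCard
import Cfsg.Agent.ClassicalGeometry.OmegaIndex

/-!
# S3677: the pointwise stabilizer of a hyperbolic plane (helper783)
-/

set_option autoImplicit false
set_option linter.unusedSectionVars false
set_option linter.style.haveILetI false

namespace Cfsg.Agent.H783.CS

open Module QuadraticMap Cfsg
open Cfsg.Agent.H420.Lift (opHom opHom_apply opHom_injective opHom_iso opHom_eq_one_iff exists_lift)
open Cfsg.Agent.LieClassical.OrthCount (IsHyp isometryGroupEquiv OG exists_map_singular partnerMap card_OG_eq_mul)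

theorem hyp_add {F : Type*} [Field F] {V : Type*} [AddCommGroup V] [Module F V] (Q : QuadraticForm F V) (x z : V) :
    Q (x + z) = Q x + Q z + polar Q x z := by
  unfold polar
  ring

/-- the partners of `e₁` -/
noncomputable def partners {F : Type*} [Field F] {V : Type*} [AddCommGroup V] [Module F V] [FiniteDimensional F V]
    {Q : QuadraticForm F V} {W C : Submodule F V} {e₁ e₂ : V} (h : Geo Q W C e₁ e₂) (hp : polar Q e₁ e₂ = 1) :
    W ≃ {v : V // IsHyp Q e₁ v} := by
  refine Equiv.ofBijective (fun w => ⟨(w : V) + ((-Q (w : V)) • e₁ + (1 : F) • e₂), h.q1, ?_, ?_⟩) ⟨?_, ?_⟩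
  · rw [hyp_add, h.Q_comb, hp, h.perp w w.2 _ (C.add_mem (C.smul_mem _ h.e1C) (C.smul_mem _ h.e2C))]
    ring
  · have e11 : polar Q e₁ e₁ = 0 := by rw [polar_self]; simp [h.q1]
    rw [polar_add_right, h.perp' w.2 h.e1C, polar_add_right, polar_smul_right, polar_smul_right, e11, hp]
    simp
  · intro w w' hww
    have h1 : (w : V) + ((-Q (w : V)) • e₁ + (1 : F) • e₂) = (w' : V) + ((-Q (w' : V)) • e₁ + (1 : F) • e₂) :=
      congrArg Subtype.val hww
    have h2 : ((w : V) - w') = ((-Q (w' : V)) • e₁ + (1 : F) • e₂) - ((-Q (w : V)) • e₁ + (1 : F) • e₂) := by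
      rw [sub_eq_sub_iff_add_eq_add, h1, add_comm]
    have h3 : ((w : V) - w') = 0 := (Submodule.disjoint_def.1 h.ic.disjoint) _ (W.sub_mem w.2 w'.2)
      (h2 ▸ C.sub_mem (C.add_mem (C.smul_mem _ h.e1C) (C.smul_mem _ h.e2C))
        (C.add_mem (C.smul_mem _ h.e1C) (C.smul_mem _ h.e2C)))
    exact Subtype.ext (sub_eq_zero.1 h3)
  · rintro ⟨v, hv1, hv2, hv3⟩
    obtain ⟨w, hw, c, hc, rfl⟩ := h.ex v
    obtain ⟨a, b, rfl⟩ := h.memC hc
    have e11 : polar Q e₁ e₁ = 0 := by rw [polar_self]; simp [h.q1]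
    have hb : b = 1 := by
      rw [polar_add_right, h.perp' hw h.e1C, polar_add_right, polar_smul_right, polar_smul_right, e11, hp] at hv3
      simpa using hv3
    have ha : a = -Q w := by
      rw [hyp_add, h.Q_comb, hp, h.perp w hw _ hc, hb] at hv2
      linear_combination hv2
    refine ⟨⟨w, hw⟩, Subtype.ext ?_⟩
    change w + ((-Q w) • e₁ + (1 : F) • e₂) = w + (a • e₁ + b • e₂)
    rw [ha, hb]

/-- the number of hyperbolic pairs is divisible by `|W|` -/
theorem dvd_pairs {F : Type*} [Field F] [Finite F] {V : Type*} [AddCommGroup V] [Module F V] [FiniteDimensional F V]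
    {Q : QuadraticForm F V} {W C : Submodule F V} {e₁ e₂ : V} (h : Geo Q W C e₁ e₂) (hp : polar Q e₁ e₂ = 1) :
    Nat.card W ∣ Nat.card {p : V × V // IsHyp Q p.1 p.2} := by
  have hfV : Finite V := Module.finite_of_finite F
  let e : {p : V × V // IsHyp Q p.1 p.2} ≃ Σ u : {u : V // ∃ v, IsHyp Q u v}, {v : V // IsHyp Q u v} :=
    { toFun := fun p => ⟨⟨p.1.1, p.1.2, p.2⟩, ⟨p.1.2, p.2⟩⟩
      invFun := fun s => ⟨(s.1.1, s.2.1), s.2.2⟩
      left_inv := fun p => rfl
      right_inv := fun s => rfl }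
  have hft : Fintype {u : V // ∃ v, IsHyp Q u v} := Fintype.ofFinite _
  rw [Nat.card_congr e, Nat.card_sigma]
  apply Finset.dvd_sum
  rintro ⟨u, v, huv⟩ -
  obtain ⟨g, hg, rfl⟩ := exists_map_singular Q (e := e₁) (f := e₂) ⟨h.q1, h.q2, hp⟩ huv
  rw [← Nat.card_congr (partnerMap hg e₁), ← Nat.card_congr (partners h hp)]

variable {F : Type*} [Field F] [Finite F] {ι : Type} [Fintype ι] [DecidableEq ι]

theorem card_fixC {Q : QuadraticForm F (ι → F)} {W C : Submodule F (ι → F)} {e₁ e₂ : ι → F} (h : Geo Q W C e₁ e₂)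
    (hp : polar Q e₁ e₂ = 1) : Nat.card W * Nat.card (fixC Q C) ∣ Nat.card (isometryGroup F ⇑Q) := by
  have h1 : Nat.card (isometryGroup F ⇑Q) = Nat.card (OG Q) := Nat.card_congr (isometryGroupEquiv Q).toEquiv
  have h2 : Nat.card (fixC Q C) = Nat.card {g : OG Q // g.1 e₁ = e₁ ∧ g.1 e₂ = e₂} := by
    refine Nat.card_congr ((isometryGroupEquiv Q).toEquiv.subtypeEquiv fun g => ?_)
    have h3 : ∀ v, ((isometryGroupEquiv Q).toEquiv g).1 v = opHom (⇑Q) g v := fun v => rfl
    rw [h3, h3]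
    constructor
    · intro hg
      exact ⟨hg e₁ h.e1C, hg e₂ h.e2C⟩
    · rintro ⟨hg1, hg2⟩ v hv
      obtain ⟨a, b, rfl⟩ := h.memC hv
      rw [map_add, map_smul, map_smul, hg1, hg2]
  rw [h1, h2, card_OG_eq_mul Q (e := e₁) (f := e₂) ⟨h.q1, h.q2, hp⟩]
  exact Nat.mul_dvd_mul_right (dvd_pairs h hp) _

/-- the `p`-part of the order of `PΩ(Q)` -/
theorem fact_iso {Q : QuadraticForm F (ι → F)} (hQ : (polarBilin Q).Nondegenerate) (hn : 6 ≤ Fintype.card ι)
    (hs : ∃ u : ι → F, u ≠ 0 ∧ Q u = 0) {p : ℕ} (hp : p.Prime) [CharP F p] :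
    (Nat.card (isometryGroup F ⇑Q)).factorization p ≤ (Nat.card (POmega F ⇑Q)).factorization p + 1 := by
  have hfin : Finite (Omega F ⇑Q) := inferInstance
  have hne : Nonempty ι := Fintype.card_pos_iff.1 (by omega)
  have h2p : p = 2 ∨ Odd p := hp.eq_two_or_odd'
  have h2F : p = 2 → (2 : F) = 0 := by
    rintro rfl
    exact_mod_cast CharP.cast_eq_zero F 2
  have hz : ¬ p ∣ Nat.card (Subgroup.center (Omega F ⇑Q)) := by
    intro hd
    have := Fact.mk hp
    obtain ⟨⟨z, hz1⟩, hz2⟩ := exists_prime_orderOf_dvd_card' p hd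
    rw [Subgroup.orderOf_mk] at hz2
    rcases h2p with h | h
    · have := center_two hQ (by omega) hs (h2F h) hz1
      rw [this, orderOf_one] at hz2
      exact hp.one_lt.ne hz2
    · have h3 := orderOf_dvd_of_pow_eq_one (center_sq hQ (by omega) hs hz1)
      rw [hz2] at h3
      have := (Nat.prime_dvd_prime_iff_eq hp Nat.prime_two).1 h3
      rw [this] at h
      exact absurd h (by decide)
  have hi : (Omega F ⇑Q).index.factorization p ≤ 1 ∧ (Omega F ⇑Q).index ≠ 0 := by
    rcases h2p with h | h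
    · have h1 := Cfsg.Agent.ClassicalGeometry.OrthDickson.index_commutator_two Q (h2F h) hQ (Or.inr (by omega))
      change (Omega F ⇑Q).index = 2 at h1
      rw [h1]
      refine ⟨?_, two_ne_zero⟩
      rw [h]
      simp [Nat.prime_two.factorization]
    · have h2 : (2 : F) ≠ 0 := by
        intro h2
        have h3 : p ∣ 2 := (CharP.cast_eq_zero_iff F p 2).1 (by exact_mod_cast h2)
        have := (Nat.prime_dvd_prime_iff_eq hp Nat.prime_two).1 h3
        rw [this] at h
        exact absurd h (by decide)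
      have hFt := Fintype.ofFinite F
      have h1 := Cfsg.Agent.ClassicalGeometry.OmegaIndex.index_Omega h2 (by omega) Q hQ
      rw [h1]
      refine ⟨?_, by norm_num⟩
      rw [Nat.factorization_eq_zero_of_not_dvd]
      · omega
      · intro h3
        have h4 : p ∣ 2 ^ 2 := h3
        have h5 := hp.dvd_of_dvd_pow h4
        have := (Nat.prime_dvd_prime_iff_eq hp Nat.prime_two).1 h5
        rw [this] at h
        exact absurd h (by decide)
  rw [Cfsg.Agent.LieClassical.PomegaCard.card_isometryGroup_eq, Nat.factorization_mul hi.2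
    (mul_ne_zero Nat.card_pos.ne' Nat.card_pos.ne'), Nat.factorization_mul Nat.card_pos.ne' Nat.card_pos.ne',
    Finsupp.add_apply, Finsupp.add_apply, Nat.factorization_eq_zero_of_not_dvd hz]
  have := hi.1
  omega

/-- **the pointwise stabilizer of the plane has small `p`-part** -/
theorem fact_fixC {Q : QuadraticForm F (ι → F)} (hQ : (polarBilin Q).Nondegenerate) (hn : 6 ≤ Fintype.card ι)
    (hs : ∃ u : ι → F, u ≠ 0 ∧ Q u = 0) {W C : Submodule F (ι → F)} {e₁ e₂ : ι → F} (h : Geo Q W C e₁ e₂)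
    (hpr : polar Q e₁ e₂ = 1) (hW : 2 ≤ finrank F W) {p : ℕ} (hp : p.Prime) [CharP F p] :
    (Nat.card (fixC Q C)).factorization p < (Nat.card (POmega F ⇑Q)).factorization p := by
  have hFt := Fintype.ofFinite F
  obtain ⟨f, -, hf⟩ := FiniteField.card F p
  have h1 : Nat.card W = p ^ ((f : ℕ) * finrank F W) := by
    rw [Module.natCard_eq_pow_finrank (K := F) (V := W), Nat.card_eq_fintype_card, hf, ← pow_mul]
  have h2 := card_fixC h hpr
  have h3 : (Nat.card W * Nat.card (fixC Q C)).factorization p ≤ (Nat.card (isometryGroup F ⇑Q)).factorization p :=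
    (Nat.factorization_le_iff_dvd (mul_ne_zero Nat.card_pos.ne' Nat.card_pos.ne') Nat.card_pos.ne').2 h2 p
  rw [Nat.factorization_mul Nat.card_pos.ne' Nat.card_pos.ne', Finsupp.add_apply, h1, hp.factorization_pow,
    Finsupp.single_eq_same] at h3
  have h4 := fact_iso hQ hn hs hp
  have h5 : 1 * 2 ≤ (f : ℕ) * finrank F W := Nat.mul_le_mul f.2 hW
  omega

end Cfsg.Agent.H783.CS
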