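import Mathlib
import Cfsg.Agent.H783.CS.Exists
import Cfsg.Agent.H783.CS.Hyp

/-!
# S3677: the generic lattice theorems for `PΩ(Q)`, `dim Q = 2 n`, and a prime `r` of order `2 n` or `2 (n - 1)` (helper783)
-/

set_option autoImplicit false
set_option linter.unusedSectionVars false
set_option linter.style.haveILetI false

namespace Cfsg.Agent.H783.CS

open Module QuadraticMap Cfsg
open Cfsg.Agent.H364 Cfsg.Agent.H370.AAM Cfsg.Agent.H431.CS
open Cfsg.Agent.H420.Lift (opHom opHom_apply opHom_injective opHom_iso opHom_eq_one_iff exists_lift)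

universe u

variable {F : Type u} [Field F] [Finite F] {ι : Type} [Fintype ι] [DecidableEq ι]

section setup

variable {Q : QuadraticForm F (ι → F)} (hQ : (polarBilin Q).Nondegenerate) (hn : 6 ≤ Fintype.card ι)
  (hs : ∃ u : ι → F, u ≠ 0 ∧ Q u = 0) {r : ℕ} (hr : r.Prime) (hr2 : r ≠ 2)

include hQ hn hs hr hr2

/-- an element of order `r` central in a Sylow `r`-subgroup, with its lift -/
theorem setup (hrS : r ∣ Nat.card (POmega F ⇑Q)) :
    ∃ (y : Omega F ⇑Q) (P : Sylow r (POmega F ⇑Q)), orderOf y = r ∧ orderOf (QuotientGroup.mk y : POmega F ⇑Q) = r ∧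
      ∀ z ∈ P, Commute z (QuotientGroup.mk y : POmega F ⇑Q) := by
  have := Fact.mk hr
  obtain ⟨P⟩ : Nonempty (Sylow r (POmega F ⇑Q)) := inferInstance
  have hP0 : (P : Subgroup (POmega F ⇑Q)) ≠ ⊥ := P.ne_bot_of_dvd_card hrS
  obtain ⟨v, -, hv2, hv3⟩ := exists_central hr P.isPGroup' P.isPGroup' Subgroup.le_normalizer hP0
  obtain ⟨y, hy1, hy2⟩ := exists_lift Q hQ (by omega) hs (hr.odd_of_ne_two hr2) hv2
  refine ⟨y, P, hy2, by rw [hy1]; exact hv2, fun z hz => ?_⟩
  rw [hy1]
  exact (hv3 z hz).symm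

omit hr hr2 in
theorem nonscalar {X : Omega F ⇑Q} (hX : (QuotientGroup.mk X : POmega F ⇑Q) ≠ 1) (l : F) :
    ∃ v, opHom (⇑Q) (X : isometryGroup F ⇑Q) v ≠ l • v := by
  by_contra hcon
  push Not at hcon
  apply hX
  rw [QuotientGroup.eq_one_iff, Subgroup.mem_center_iff]
  intro g
  have h1 : Commute (g : isometryGroup F ⇑Q) (X : isometryGroup F ⇑Q) := by
    rw [comm_iff]
    intro v
    rw [hcon, hcon, map_smul]
  exact Subtype.ext h1.eq

/-- lifts of the elements commuting with `y` -/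
theorem exists_liftX {y : Omega F ⇑Q} (hy : orderOf y = r) {x : POmega F ⇑Q}
    (hxy : Commute x (QuotientGroup.mk y : POmega F ⇑Q)) :
    ∃ X : Omega F ⇑Q, (QuotientGroup.mk X : POmega F ⇑Q) = x ∧
      Commute (X : isometryGroup F ⇑Q) (y : isometryGroup F ⇑Q) := by
  obtain ⟨X, rfl⟩ := QuotientGroup.mk_surjective x
  refine ⟨X, rfl, ?_⟩
  have h1 := comm_of_odd hQ (by omega) hs (hr.odd_of_ne_two hr2) (hy ▸ pow_orderOf_eq_one y) hxy.symm
  exact (h1.map (Omega F ⇑Q).subtype).symm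

theorem huniq {K : Type*} [Field K] [Finite K] [Algebra F K] {y : Omega F ⇑Q}
    {W C : Submodule F (ι → F)} {e₁ e₂ : ι → F} {φ : K →ₐ[F] Module.End F W}
    (D : Dat Q (y : isometryGroup F ⇑Q) W C e₁ e₂ φ) (hy : orderOf y = r) (hrq : ¬ r ∣ Nat.card F - 1)
    (b : POmega F ⇑Q) (hb : orderOf b = r) (hby : Commute b (QuotientGroup.mk y : POmega F ⇑Q)) :
    b ∈ Subgroup.zpowers (QuotientGroup.mk y : POmega F ⇑Q) := by
  obtain ⟨X, rfl, hX⟩ := exists_lift Q hQ (by omega) hs (hr.odd_of_ne_two hr2) hb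
  have h1 := comm_of_odd hQ (by omega) hs (hr.odd_of_ne_two hr2) (hX ▸ pow_orderOf_eq_one X) hby
  have hy1 : (y : isometryGroup F ⇑Q) ≠ 1 := by
    intro h
    have : y = 1 := Subtype.ext h
    rw [this, orderOf_one] at hy
    exact hr.one_lt.ne hy
  have hyr : (y : isometryGroup F ⇑Q) ^ r = 1 := by
    have := pow_orderOf_eq_one y
    rw [hy] at this
    exact congrArg Subtype.val this
  have hXr : (X : isometryGroup F ⇑Q) ^ r = 1 := by
    have := pow_orderOf_eq_one X
    rw [hX] at this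
    exact congrArg Subtype.val this
  obtain ⟨j, hj⟩ := D.uniq hr hyr hy1 hrq X.2 (h1.map (Omega F ⇑Q).subtype) hXr
  have h2 : X = y ^ j := Subtype.ext hj
  rw [h2]
  exact ⟨j, by simp⟩

end setup

/-- the value of the `p`-part of a centralizer of type B -/
theorem Dat.valB {K : Type*} [Field K] [Finite K] [Algebra F K] {Q : QuadraticForm F (ι → F)} {y : isometryGroup F ⇑Q}
    {W C : Submodule F (ι → F)} {e₁ e₂ : ι → F} {φ : K →ₐ[F] Module.End F W} (D : Dat Q y W C e₁ e₂ φ) {p f : ℕ}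
    (hp : p.Prime) [CharP F p] (hq : Nat.card F = p ^ f) (hf : 0 < f) {X : Omega F ⇑Q}
    (hXy : Commute (X : isometryGroup F ⇑Q) y) {a : K}
    (ha : ∀ w : W, opHom (⇑Q) (X : isometryGroup F ⇑Q) w = φ a w) (hna : ∀ l : F, a ≠ algebraMap F K l) :
    ∃ k m, 0 < k ∧ 0 < m ∧ finrank F W = 2 * k * m ∧ (minpoly F a).natDegree = 2 * k ∧
      (Nat.card (Subgroup.centralizer ({X} : Set (Omega F ⇑Q)))).factorization p = f * (k * (m * (m - 1) / 2)) := by
  have hnt := D.nt
  obtain ⟨hXW, hXC⟩ := D.keep (comm_iff.1 hXy)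
  obtain ⟨k, m, hk, hm, h1, h2, h3⟩ := D.geo.count (opHom_iso _ X) hXW ha hna
  refine ⟨k, m, hk, hm, h1, h2, ?_⟩
  rw [D.factB hp hXy ha hna, D.card_fixer hXW ha (by
    intro h
    exact hna 1 (by rw [map_one]; exact h)) hXC, h3]
  exact fact_formula hp hq hf hk

theorem two_mul_val {e k m : ℕ} (h : 2 * e = 2 * k * m) : 2 * (k * (m * (m - 1) / 2)) = e * (m - 1) := by
  have h1 : e = k * m := by
    have : 2 * k * m = 2 * (k * m) := by ring
    omega
  have h2 : m * (m - 1) / 2 * 2 = m * (m - 1) := Nat.div_mul_cancel (Nat.even_mul_pred_self m).two_dvd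
  calc 2 * (k * (m * (m - 1) / 2)) = k * (m * (m - 1) / 2 * 2) := by ring
    _ = k * (m * (m - 1)) := by rw [h2]
    _ = e * (m - 1) := by rw [h1]; ring

/-- same value, same degree -/
theorem val_inj {f e k m k' m' : ℕ} (hf : 0 < f) (he : 0 < e) (hm : 0 < m) (hm' : 0 < m') (h : 2 * e = 2 * k * m)
    (h' : 2 * e = 2 * k' * m') (hv : f * (k' * (m' * (m' - 1) / 2)) = f * (k * (m * (m - 1) / 2))) : k' = k := by
  have h1 := Nat.eq_of_mul_eq_mul_left hf hv
  have h2 := two_mul_val h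
  have h3 := two_mul_val h'
  rw [h1, h2] at h3
  have h4 := Nat.eq_of_mul_eq_mul_left he h3
  have h5 : m' = m := by omega
  subst h5
  rw [h] at h'
  have h6 := Nat.eq_of_mul_eq_mul_right hm h'
  omega

set_option maxHeartbeats 1000000 in
/-- **`r` of order `2 n`** -/
theorem latW_top {Q : QuadraticForm F (ι → F)} (hQ : (polarBilin Q).Nondegenerate) {n : ℕ} (hn : 4 ≤ n)
    (hdim : Fintype.card ι = 2 * n) (hs : ∃ u : ι → F, u ≠ 0 ∧ Q u = 0) {p f : ℕ} (hp : p.Prime) [CharP F p]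
    (hq : Nat.card F = p ^ f) (hf : 0 < f) {r : ℕ} (hr : r.Prime) (hr2 : r ≠ 2) (hrp : r ≠ p)
    (ho : orderOf ((Nat.card F : ℕ) : ZMod r) = 2 * n) (hE : NoEdge (POmega F ⇑Q) r p)
    (hrS : r ∣ Nat.card (POmega F ⇑Q)) (hvp : (Nat.card (POmega F ⇑Q)).factorization p = f * (n * (n - 1))) :
    LatW (POmega F ⇑Q) p r := by
  have hfr := Fact.mk hr
  obtain ⟨y, P, hy, hyo, hyP⟩ := setup hQ (by omega) hs hr hr2 hrS
  have hrF : (r : F) ≠ 0 := by
    intro h
    exact hrp ((Nat.prime_dvd_prime_iff_eq hp hr).1 ((CharP.cast_eq_zero_iff F p r).1 h)).symm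
  have hy1 : (y : isometryGroup F ⇑Q) ≠ 1 := by
    intro h
    have : y = 1 := Subtype.ext h
    rw [this, orderOf_one] at hy
    exact hr.one_lt.ne hy
  have hyr : (y : isometryGroup F ⇑Q) ^ r = 1 := by
    have := pow_orderOf_eq_one y
    rw [hy] at this
    exact congrArg Subtype.val this
  obtain ⟨W, C, e₁, e₂, K, _, _, _, φ, D, hW, hC, -⟩ := exists_dat hQ (by omega) hdim hr hrF hyr hy1 ho (Or.inl rfl)
  have hnt := D.nt
  have hC0 := hC rfl
  have hrq : ¬ r ∣ Nat.card F - 1 := by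
    intro hd
    have h1 : orderOf ((Nat.card F : ℕ) : ZMod r) ∣ 1 := by
      rw [orderOf_dvd_iff_pow_eq_one, pow_one, ← sub_eq_zero]
      rw [← ZMod.natCast_eq_zero_iff, Nat.cast_sub Nat.card_pos, Nat.cast_one] at hd
      exact hd
    rw [ho] at h1
    have := Nat.le_of_dvd one_pos h1
    omega
  have hvpos : 0 < f * (n * (n - 1)) := Nat.mul_pos hf (Nat.mul_pos (by omega) (by omega))
  have hpS : p ∣ Nat.card (POmega F ⇑Q) := by
    by_contra h
    rw [Nat.factorization_eq_zero_of_not_dvd h] at hvp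
    omega
  -- the list
  have hlist : ∀ x : POmega F ⇑Q, x ≠ 1 → Commute x (QuotientGroup.mk y : POmega F ⇑Q) →
      ∃ (X : Omega F ⇑Q) (a : K) (k m : ℕ), (QuotientGroup.mk X : POmega F ⇑Q) = x ∧
        Commute (X : isometryGroup F ⇑Q) (y : isometryGroup F ⇑Q) ∧
        (∀ w : W, opHom (⇑Q) (X : isometryGroup F ⇑Q) w = φ a w) ∧ Dg e₁ e₂ (opHom (⇑Q) (X : isometryGroup F ⇑Q)) ∧
        (∀ l : F, a ≠ algebraMap F K l) ∧ 0 < k ∧ 0 < m ∧ 2 * n = 2 * k * m ∧ (minpoly F a).natDegree = 2 * k ∧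
        (Nat.card (Subgroup.centralizer ({x} : Set (POmega F ⇑Q)))).factorization p = f * (k * (m * (m - 1) / 2)) := by
    intro x hx hxy
    obtain ⟨X, rfl, hXy⟩ := exists_liftX hQ (by omega) hs hr hr2 hy hxy
    obtain ⟨a, ha, hd⟩ := D.lift X.2 hXy
    have hna : ∀ l : F, a ≠ algebraMap F K l := by
      rintro l rfl
      obtain ⟨v, hv⟩ := nonscalar hQ (by omega) hs hx l
      apply hv
      obtain ⟨w, hw, c, hc, rfl⟩ := D.geo.ex v
      rw [hC0, Submodule.mem_bot] at hc
      rw [hc, add_zero, ha ⟨w, hw⟩, AlgHom.commutes]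
      rfl
    obtain ⟨k, m, hk, hm, h1, h2, h3⟩ := D.valB hp hq hf hXy ha hna
    refine ⟨X, a, k, m, rfl, hXy, ha, hd, hna, hk, hm, by rw [← hW, h1], h2, ?_⟩
    rw [fact_cent hQ (by omega) hs hp X, h3]
  apply latW_of hp hr hrp hpS hE hyo P hyP (huniq hQ (by omega) hs hr hr2 D hy hrq)
  · intro x hx hxy
    obtain ⟨X, a, k, m, -, -, -, -, -, hk, hm, h1, -, h3⟩ := hlist x hx hxy
    rw [h3, hvp]
    apply Nat.mul_lt_mul_of_pos_left _ hf
    have h4 := two_mul_val h1
    have h5 : m ≤ n := by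
      have : n = k * m := by
        have : 2 * k * m = 2 * (k * m) := by ring
        omega
      rw [this]
      exact Nat.le_mul_of_pos_left m hk
    have h6 : n * (m - 1) ≤ n * (n - 1) := Nat.mul_le_mul_left _ (by omega)
    have h7 : 0 < n * (n - 1) := Nat.mul_pos (by omega) (by omega)
    omega
  · intro x hx hxy
    obtain ⟨X, a, k, m, hXx, hXy, ha, hd, hna, hk, hm, h1, h2, h3⟩ := hlist x hx hxy
    by_cases hk1 : k = 1
    · left
      intro x' hx' hxy'
      obtain ⟨X', a', k', m', -, -, -, -, -, hk', hm', h1', -, h3'⟩ := hlist x' hx' hxy'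
      rw [h3, h3']
      apply Nat.mul_le_mul_left
      have h4 := two_mul_val h1
      have h4' := two_mul_val h1'
      have h5 : m' ≤ m := by
        have e1 : n = k' * m' := by
          have : 2 * k' * m' = 2 * (k' * m') := by ring
          omega
        have e2 : n = m := by rw [hk1] at h1; omega
        rw [← e2, e1]
        exact Nat.le_mul_of_pos_left m' hk'
      have h6 : n * (m' - 1) ≤ n * (m - 1) := Nat.mul_le_mul_left _ (by omega)
      omega
    · right
      intro x' hx' hxy' hv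
      obtain ⟨X', a', k', m', hXx', hXy', ha', hd', hna', hk', hm', h1', h2', h3'⟩ := hlist x' hx' hxy'
      rw [h3, h3'] at hv
      have hkk := val_inj hf (by omega) hm hm' h1 h1' hv
      have hdeg : (minpoly F a).natDegree = (minpoly F a').natDegree := by rw [h2, h2', hkk]
      have hnd : ∀ (Z : Omega F ⇑Q) (b : K), Commute (Z : isometryGroup F ⇑Q) (y : isometryGroup F ⇑Q) →
          (∀ w : W, opHom (⇑Q) (Z : isometryGroup F ⇑Q) w = φ b w) → (∀ l : F, b ≠ algebraMap F K l) →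
          (minpoly F b).natDegree = 2 * k → ∀ g : Omega F ⇑Q,
          Commute (QuotientGroup.mk g : POmega F ⇑Q) (QuotientGroup.mk Z) → Commute g Z := by
        intro Z b hZy hb hnb hbk g hg
        rcases comm_neg hQ (by omega) hs hg with h | h
        · exact h
        · by_cases h2F : (2 : F) = 0
          · have h4 : Commute (g : isometryGroup F ⇑Q) Z := by
              rw [comm_iff]
              intro v
              rw [h]
              apply neg_eq_of_add_eq_zero_left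
              rw [← two_smul F, h2F, zero_smul]
            exact Subtype.ext h4.eq
          · exfalso
            have h4 := (D.geo.defect h2F (opHom_iso _ Z) (D.keep (comm_iff.1 hZy)).1 hb hnb (opHom_iso _ g) (by
              intro v hv
              apply D.geo.mem_W
              intro c hc
              rw [hC0, Submodule.mem_bot] at hc
              rw [hc, polar_zero_right]) h).2
            omega
      rw [← hXx, ← hXx']
      apply card_cent_eq hQ (by omega) hs (hnd X' a' hXy' ha' hna' (by rw [h2', hkk])) (hnd X a hXy ha hna h2)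
      intro g
      constructor
      · intro hg
        have h5 := D.same ha' hna' hd' ha hd hdeg.symm g.2 (hg.map (Omega F ⇑Q).subtype)
        exact Subtype.ext h5.eq
      · intro hg
        have h5 := D.same ha hna hd ha' hd' hdeg g.2 (hg.map (Omega F ⇑Q).subtype)
        exact Subtype.ext h5.eq

set_option maxHeartbeats 1000000 in
/-- **`r` of order `2 (n - 1)`, `ker (y - 1)` a hyperbolic plane** -/
theorem latW_sub {Q : QuadraticForm F (ι → F)} (hQ : (polarBilin Q).Nondegenerate) {n : ℕ} (hn : 4 ≤ n)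
    (hdim : Fintype.card ι = 2 * n) (hs : ∃ u : ι → F, u ≠ 0 ∧ Q u = 0) {p f : ℕ} (hp : p.Prime) [CharP F p]
    (hq : Nat.card F = p ^ f) (hf : 0 < f) {r : ℕ} (hr : r.Prime) (hr2 : r ≠ 2) (hrp : r ≠ p)
    (ho : orderOf ((Nat.card F : ℕ) : ZMod r) = 2 * (n - 1)) (hE : NoEdge (POmega F ⇑Q) r p)
    (hrS : r ∣ Nat.card (POmega F ⇑Q)) (hpS : p ∣ Nat.card (POmega F ⇑Q))
    (hU : ∀ y : isometryGroup F ⇑Q, y ^ r = 1 → y ≠ 1 → ∃ u, opHom (⇑Q) y u = u ∧ u ≠ 0 ∧ Q u = 0) :
    LatW (POmega F ⇑Q) p r := by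
  have hfr := Fact.mk hr
  obtain ⟨y, P, hy, hyo, hyP⟩ := setup hQ (by omega) hs hr hr2 hrS
  have hrF : (r : F) ≠ 0 := by
    intro h
    exact hrp ((Nat.prime_dvd_prime_iff_eq hp hr).1 ((CharP.cast_eq_zero_iff F p r).1 h)).symm
  have hy1 : (y : isometryGroup F ⇑Q) ≠ 1 := by
    intro h
    have : y = 1 := Subtype.ext h
    rw [this, orderOf_one] at hy
    exact hr.one_lt.ne hy
  have hyr : (y : isometryGroup F ⇑Q) ^ r = 1 := by
    have := pow_orderOf_eq_one y
    rw [hy] at this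
    exact congrArg Subtype.val this
  obtain ⟨W, C, e₁, e₂, K, _, _, _, φ, D, hW, -, hpr⟩ := exists_dat hQ (by omega) hdim hr hrF hyr hy1 ho
    (Or.inr ⟨by omega, hU y hyr hy1⟩)
  have hnt := D.nt
  have hpr := hpr (by omega)
  have hrq : ¬ r ∣ Nat.card F - 1 := by
    intro hd
    have h1 : orderOf ((Nat.card F : ℕ) : ZMod r) ∣ 1 := by
      rw [orderOf_dvd_iff_pow_eq_one, pow_one, ← sub_eq_zero]
      rw [← ZMod.natCast_eq_zero_iff, Nat.cast_sub Nat.card_pos, Nat.cast_one] at hd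
      exact hd
    rw [ho] at h1
    have := Nat.le_of_dvd one_pos h1
    omega
  -- the list
  have hlist : ∀ x : POmega F ⇑Q, x ≠ 1 → Commute x (QuotientGroup.mk y : POmega F ⇑Q) →
      ∃ (X : Omega F ⇑Q) (a : K), (QuotientGroup.mk X : POmega F ⇑Q) = x ∧
        Commute (X : isometryGroup F ⇑Q) (y : isometryGroup F ⇑Q) ∧
        (∀ w : W, opHom (⇑Q) (X : isometryGroup F ⇑Q) w = φ a w) ∧ Dg e₁ e₂ (opHom (⇑Q) (X : isometryGroup F ⇑Q)) ∧
        (∀ l : F, ∃ v, opHom (⇑Q) (X : isometryGroup F ⇑Q) v ≠ l • v) ∧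
        (Nat.card (Subgroup.centralizer ({x} : Set (POmega F ⇑Q)))).factorization p =
          (Nat.card (Subgroup.centralizer ({X} : Set (Omega F ⇑Q)))).factorization p := by
    intro x hx hxy
    obtain ⟨X, rfl, hXy⟩ := exists_liftX hQ (by omega) hs hr hr2 hy hxy
    obtain ⟨a, ha, hd⟩ := D.lift X.2 hXy
    exact ⟨X, a, rfl, hXy, ha, hd, nonscalar hQ (by omega) hs hx, fact_cent hQ (by omega) hs hp X⟩
  have hscal : ∀ (X : Omega F ⇑Q) (l : F), (∀ w : W, opHom (⇑Q) (X : isometryGroup F ⇑Q) w = φ (algebraMap F K l) w) →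
      ∀ w ∈ W, opHom (⇑Q) (X : isometryGroup F ⇑Q) w = l • w := by
    intro X l ha w hw
    rw [ha ⟨w, hw⟩, AlgHom.commutes]
    rfl
  apply latW_of hp hr hrp hpS hE hyo P hyP (huniq hQ (by omega) hs hr hr2 D hy hrq)
  · intro x hx hxy
    obtain ⟨X, a, -, hXy, -, -, hX1, hv⟩ := hlist x hx hxy
    rw [hv]
    exact (D.fact_le_fixC hp hXy hX1).trans_lt (fact_fixC hQ (by omega) hs D.geo hpr (by omega) hp)
  · intro x hx hxy
    obtain ⟨X, a, hXx, hXy, ha, hd, hX1, hv⟩ := hlist x hx hxy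
    -- type A below
    by_cases hA : ∃ (X'' : Omega F ⇑Q) (l : F), Commute (X'' : isometryGroup F ⇑Q) (y : isometryGroup F ⇑Q) ∧
        (∀ w ∈ W, opHom (⇑Q) (X'' : isometryGroup F ⇑Q) w = l • w) ∧
        (Nat.card (Subgroup.centralizer ({X''} : Set (Omega F ⇑Q)))).factorization p ≤
          (Nat.card (Subgroup.centralizer ({X} : Set (Omega F ⇑Q)))).factorization p
    · left
      obtain ⟨X'', l, hXy'', hl, hle⟩ := hA
      intro x' hx' hxy'
      obtain ⟨X', a', -, hXy', -, -, hX1', hv'⟩ := hlist x' hx' hxy'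
      rw [hv, hv']
      exact (D.factA hp hXy'' hl hXy' hX1').trans hle
    · right
      have hna : ∀ l : F, a ≠ algebraMap F K l := by
        rintro l rfl
        exact hA ⟨X, l, hXy, hscal X l ha, le_rfl⟩
      intro x' hx' hxy' hvv
      obtain ⟨X', a', hXx', hXy', ha', hd', hX1', hv'⟩ := hlist x' hx' hxy'
      rw [hv, hv'] at hvv
      have hna' : ∀ l : F, a' ≠ algebraMap F K l := by
        rintro l rfl
        exact hA ⟨X', l, hXy', hscal X' l ha', hvv.le⟩
      obtain ⟨k, m, hk, hm, h1, h2, h3⟩ := D.valB hp hq hf hXy ha hna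
      obtain ⟨k', m', hk', hm', h1', h2', h3'⟩ := D.valB hp hq hf hXy' ha' hna'
      rw [h3, h3'] at hvv
      have hkk := val_inj (e := n - 1) hf (by omega) hm hm' (by rw [← hW, h1]) (by rw [← hW, h1']) hvv
      have hdeg : (minpoly F a).natDegree = (minpoly F a').natDegree := by rw [h2, h2', hkk]
      have hnd : ∀ (Z : Omega F ⇑Q) (b : K), Commute (Z : isometryGroup F ⇑Q) (y : isometryGroup F ⇑Q) →
          (∀ w : W, opHom (⇑Q) (Z : isometryGroup F ⇑Q) w = φ b w) → (∀ l : F, b ≠ algebraMap F K l) →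
          Dg e₁ e₂ (opHom (⇑Q) (Z : isometryGroup F ⇑Q)) → ∀ g : Omega F ⇑Q,
          Commute (QuotientGroup.mk g : POmega F ⇑Q) (QuotientGroup.mk Z) → Commute g Z := by
        intro Z b hZy hb hnb hdZ g hg
        rcases comm_neg hQ (by omega) hs hg with h | h
        · exact h
        · by_cases h2F : (2 : F) = 0
          · have h4 : Commute (g : isometryGroup F ⇑Q) Z := by
              rw [comm_iff]
              intro v
              rw [h]
              apply neg_eq_of_add_eq_zero_left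
              rw [← two_smul F, h2F, zero_smul]
            exact Subtype.ext h4.eq
          · exfalso
            exact D.geo.no_defect h2F hpr (opHom_iso _ Z) (D.keep (comm_iff.1 hZy)).1 hb hnb hdZ (opHom_iso _ g) h
      rw [← hXx, ← hXx']
      apply card_cent_eq hQ (by omega) hs (hnd X' a' hXy' ha' hna' hd') (hnd X a hXy ha hna hd)
      intro g
      constructor
      · intro hg
        have h5 := D.same ha' hna' hd' ha hd hdeg.symm g.2 (hg.map (Omega F ⇑Q).subtype)
        exact Subtype.ext h5.eq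
      · intro hg
        have h5 := D.same ha hna hd ha' hd' hdeg g.2 (hg.map (Omega F ⇑Q).subtype)
        exact Subtype.ext h5.eq

end Cfsg.Agent.H783.CS
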