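import Mathlib
import Cfsg.Agent.H783.CS.Lat
import Cfsg.Agent.S0294
import Cfsg.Agent.S0290

/-!
# S3677: the lattices of `PΩ⁻(2n, q)` (helper783)
-/

set_option autoImplicit false
set_option linter.unusedSectionVars false
set_option linter.style.haveILetI false

namespace Cfsg.Agent.H783.CS

open Module QuadraticMap Cfsg
open Cfsg.Agent.H364 Cfsg.Agent.H370.AAM Cfsg.Agent.H431.CS
open Cfsg.Agent.LieClassical.OmegaReindex
open Cfsg.Agent.H420.Lift (opHom opHom_apply opHom_injective opHom_iso opHom_eq_one_iff exists_lift)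

universe v

theorem charP_of_card {F : Type v} [Field F] [Fintype F] {p f : ℕ} (hp : p.Prime) (_hf : 1 ≤ f)
    (hF : Fintype.card F = p ^ f) : CharP F p := by
  obtain ⟨p', hchar⟩ := CharP.exists F
  obtain ⟨m, hp', hm⟩ := FiniteField.card F p'
  have h1 : p' ∣ p ^ f := by
    rw [← hF, hm]
    exact dvd_pow_self p' m.ne_zero
  have h2 := (Nat.prime_dvd_prime_iff_eq hp' hp).1 (hp'.dvd_of_dvd_pow h1)
  rw [← h2]
  exact hchar

theorem ne_two_of_order {q r k : ℕ} (hk : 2 ≤ k) (ho : orderOf ((q : ℕ) : ZMod r) = k) : r ≠ 2 := by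
  rintro rfl
  have h1 : ∀ x : ZMod 2, x = 0 ∨ x = 1 := by decide
  rcases h1 ((q : ℕ) : ZMod 2) with h | h
  · rw [h, orderOf_eq_zero_iff'.2 (fun k hk => by rw [zero_pow (by omega)]; exact zero_ne_one)] at ho
    omega
  · rw [h, orderOf_one] at ho
    omega

theorem not_dvd_of_order {q r k : ℕ} (hr : r.Prime) (hk : 2 ≤ k) (ho : orderOf ((q : ℕ) : ZMod r) = k) : ¬ r ∣ q := by
  have := Fact.mk hr
  intro h
  rw [(ZMod.natCast_eq_zero_iff _ _).2 h, orderOf_eq_zero_iff'.2 (fun k hk => by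
    rw [zero_pow (by omega)]; exact zero_ne_one)] at ho
  omega

theorem neg_one_of_order {q r k : ℕ} (hr : r.Prime) (hk : 1 ≤ k) (ho : orderOf ((q : ℕ) : ZMod r) = 2 * k) :
    ((q : ℕ) : ZMod r) ^ k = -1 := by
  have := Fact.mk hr
  set z := ((q : ℕ) : ZMod r) with hz
  have h1 : (z ^ k) * (z ^ k) = 1 := by
    rw [← pow_add, ← two_mul, ← ho, pow_orderOf_eq_one]
  rcases mul_self_eq_one_iff.1 h1 with h | h
  · exfalso
    have h2 := orderOf_dvd_of_pow_eq_one h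
    rw [ho] at h2
    have := Nat.le_of_dvd (by omega) h2
    omega
  · exact h

section

variable {F : Type v} [Field F] [Fintype F] {p f n : ℕ}

theorem gcd_not_dvd {p q n : ℕ} (hp : p.Prime) (hpq : p ∣ q) (hn : 1 ≤ n) : ¬ p ∣ Nat.gcd 4 (q ^ n + 1) := by
  intro h
  have h1 : p ∣ q ^ n + 1 := h.trans (Nat.gcd_dvd_right _ _)
  have h2 : p ∣ q ^ n := dvd_pow hpq (by omega)
  exact hp.one_lt.ne' (Nat.dvd_one.1 ((Nat.dvd_add_right h2).1 h1))

theorem odd_not_dvd {r m : ℕ} (hr : r.Prime) (hr2 : r ≠ 2) : ¬ r ∣ Nat.gcd 4 m := by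
  intro h
  have h1 : r ∣ 2 ^ 2 := h.trans (Nat.gcd_dvd_left 4 m)
  exact hr2 ((Nat.prime_dvd_prime_iff_eq hr Nat.prime_two).1 (hr.dvd_of_dvd_pow h1))

/-- the `p`-part of the order of `PΩ⁻(2n, q)` -/
theorem fact_minus (hp : p.Prime) (hf : 1 ≤ f) (hF : Fintype.card F = p ^ f) (hn : 4 ≤ n) {a b : F}
    (hab : ∀ z₁ z₂ : F, z₁ ^ 2 + a * z₁ * z₂ + b * z₂ ^ 2 = 0 → z₁ = 0 ∧ z₂ = 0) :
    (Nat.card (POmega F (quadFormMinus (n - 1) F a b))).factorization p = f * (n * (n - 1)) := by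
  have h := Cfsg.Agent.S0294.result hF n hn a b hab
  set q := p ^ f with hq
  have hpq : p ∣ q := dvd_pow_self p (by omega)
  have hq1 : 1 < q := Nat.one_lt_pow (by omega) hp.one_lt
  have hg := gcd_not_dvd (n := n) hp hpq (by omega)
  have hX : ¬ p ∣ (q ^ n + 1) * ∏ i ∈ Finset.range (n - 1), (q ^ (2 * (i + 1)) - 1) := by
    rw [hp.dvd_mul, not_or]
    constructor
    · intro h1
      have h2 : p ∣ q ^ n := dvd_pow hpq (by omega)
      exact hp.one_lt.ne' (Nat.dvd_one.1 ((Nat.dvd_add_right h2).1 h1))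
    · rw [Prime.dvd_finsetProd_iff hp.prime]
      rintro ⟨i, -, hi⟩
      have h1 : p ∣ q ^ (2 * (i + 1)) := dvd_pow hpq (by omega)
      have h2 : 1 ≤ q ^ (2 * (i + 1)) := Nat.one_le_pow _ _ (by omega)
      have h3 : p ∣ 1 := by
        have := Nat.dvd_sub h1 hi
        rwa [Nat.sub_sub_self h2] at this
      exact hp.one_lt.ne' (Nat.dvd_one.1 h3)
  have hX0 : (q ^ n + 1) * ∏ i ∈ Finset.range (n - 1), (q ^ (2 * (i + 1)) - 1) ≠ 0 := by
    intro h0
    rw [h0] at hX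
    exact hX (dvd_zero p)
  have hg0 : Nat.gcd 4 (q ^ n + 1) ≠ 0 := by
    intro h0
    rw [h0] at hg
    exact hg (dvd_zero p)
  have hc0 : Nat.card (POmega F (quadFormMinus (n - 1) F a b)) ≠ 0 := by
    intro h0
    rw [h0, mul_zero, mul_assoc] at h
    exact (mul_ne_zero (pow_ne_zero _ (by omega)) hX0) h.symm
  have h4 := congrArg (fun t => t.factorization p) h
  rw [mul_assoc] at h4
  simp only [Nat.factorization_mul hg0 hc0, Nat.factorization_mul (pow_ne_zero (n * (n - 1)) (by omega : q ≠ 0)) hX0,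
    Finsupp.add_apply, Nat.factorization_eq_zero_of_not_dvd hg, Nat.factorization_eq_zero_of_not_dvd hX, zero_add,
    add_zero] at h4
  rw [h4, hq, ← pow_mul, hp.factorization_pow, Finsupp.single_eq_same]

/-- **L-DD-top** -/
theorem lat_minus_top {r : ℕ} (hp : p.Prime) (hf : 1 ≤ f) (hF : Fintype.card F = p ^ f) (hn : 4 ≤ n) {a b : F}
    (hab : ∀ z₁ z₂ : F, z₁ ^ 2 + a * z₁ * z₂ + b * z₂ ^ 2 = 0 → z₁ = 0 ∧ z₂ = 0) (hr : r.Prime)
    (ho : orderOf (((p ^ f : ℕ)) : ZMod r) = 2 * n) :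
    LatW (POmega F (quadFormMinus (n - 1) F a b)) p r := by
  have hpF := Fact.mk hp
  have hfr := Fact.mk hr
  have hchar : CharP F p := charP_of_card hp hf hF
  have hq : Nat.card F = p ^ f := by rw [Nat.card_eq_fintype_card, hF]
  have hvp := fact_minus hp hf hF hn hab
  have hdim : Fintype.card ((Fin (n - 1) ⊕ Fin (n - 1)) ⊕ Fin 2) = 2 * n := by simp; omega
  have hdim' : finrank F ((Fin (n - 1) ⊕ Fin (n - 1)) ⊕ Fin 2 → F) = 2 * n := by simp; omega
  have hnd := quadMinus_nondegenerate (m := n - 1) (F := F) hab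
  have hs := quadMinus_isotropic (m := n - 1) (F := F) (by omega) a b
  have hr2 : r ≠ 2 := ne_two_of_order (by omega) ho
  have hrq := not_dvd_of_order hr (by omega) ho
  have hrp : r ≠ p := by
    rintro rfl
    exact hrq (dvd_pow_self r (by omega))
  have ho' : orderOf ((Nat.card F : ℕ) : ZMod r) = 2 * n := by rw [hq]; exact ho
  have hS := Cfsg.Agent.S0294.result hF n hn a b hab
  have hrS : r ∣ Nat.card (POmega F (quadFormMinus (n - 1) F a b)) := by
    have h1 : r ∣ (p ^ f) ^ n + 1 := by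
      rw [← ZMod.natCast_eq_zero_iff, Nat.cast_add, Nat.cast_pow, Nat.cast_one, neg_one_of_order hr (by omega) ho,
        neg_add_cancel]
    have h2 : r ∣ Nat.gcd 4 ((p ^ f) ^ n + 1) * Nat.card (POmega F (quadFormMinus (n - 1) F a b)) := by
      rw [hS]
      exact (Dvd.dvd.mul_left h1 _).mul_right _
    exact (hr.dvd_mul.1 h2).resolve_left (odd_not_dvd hr hr2)
  rw [← coe_quadMinus] at hvp hrS ⊢
  have hE := OrthUnip.pomega_noEdge p (quadMinus (n - 1) F a b) hnd hn hdim' hs hr hrp hr2 ho'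
    (Or.inr ⟨even_two_mul n, rfl⟩) (Or.inl rfl)
  exact latW_top hnd hn hdim hs hp hq (by omega) hr hr2 hrp ho' hE hrS hvp

/-- fixed vectors of an element of order `r` -/
theorem exists_sing {q r : ℕ} (hF : Fintype.card F = q) (hn : 4 ≤ n) {a b : F}
    (hab : ∀ z₁ z₂ : F, z₁ ^ 2 + a * z₁ * z₂ + b * z₂ ^ 2 = 0 → z₁ = 0 ∧ z₂ = 0) (hr : r.Prime)
    (ho : orderOf ((q : ℕ) : ZMod r) = 2 * (n - 1)) (Q : QuadraticForm F ((Fin (n - 1) ⊕ Fin (n - 1)) ⊕ Fin 2 → F))
    (hQ : Q = quadMinus (n - 1) F a b) (y : isometryGroup F ⇑Q)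
    (hy : y ^ r = 1) : ∃ u, opHom (⇑Q) y u = u ∧ u ≠ 0 ∧ Q u = 0 := by
  classical
  have hfr := Fact.mk hr
  obtain ⟨T, hT⟩ : ∃ T, T = opHom (⇑Q) y := ⟨_, rfl⟩
  have hTr : T ^ r = 1 := by rw [hT, ← map_pow, hy, map_one]
  have hTQ : ∀ v, Q (T v) = Q v := fun v => by rw [hT]; exact opHom_iso (⇑Q) y v
  rw [← hT]
  by_contra hcon
  push Not at hcon
  have hZf : Fintype {v : (Fin (n - 1) ⊕ Fin (n - 1)) ⊕ Fin 2 → F // Q v = 0} := Fintype.ofFinite _
  let g : Function.End {v : (Fin (n - 1) ⊕ Fin (n - 1)) ⊕ Fin 2 → F // Q v = 0} :=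
    fun v => ⟨T v.1, by rw [hTQ]; exact v.2⟩
  have hg : g ^ r ^ 1 = 1 := by
    rw [pow_one]
    have h1 : ∀ k : ℕ, ∀ v : {v : (Fin (n - 1) ⊕ Fin (n - 1)) ⊕ Fin 2 → F // Q v = 0}, ((g ^ k) v).1 = (T ^ k) v.1 := by
      intro k
      induction k with
      | zero => intro v; rfl
      | succ k ih =>
        intro v
        rw [pow_succ, pow_succ, Module.End.mul_apply]
        exact ih (g v)
    funext v
    apply Subtype.ext
    rw [h1, hTr]
    rfl
  have h2 := Equiv.Perm.card_fixedPoints_modEq hg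
  have h3 : Fintype.card (Function.fixedPoints g) = 1 := by
    rw [Fintype.card_eq_one_iff]
    refine ⟨⟨⟨0, QuadraticMap.map_zero Q⟩, ?_⟩, ?_⟩
    · apply Subtype.ext
      exact map_zero T
    · rintro ⟨⟨v, hv⟩, hv2⟩
      apply Subtype.ext
      apply Subtype.ext
      change v = 0
      by_contra hne
      exact hcon v (congrArg Subtype.val hv2) hne hv
  have h4 : Fintype.card {v : (Fin (n - 1) ⊕ Fin (n - 1)) ⊕ Fin 2 → F // Q v = 0} =
      q ^ (2 * n - 1) + q ^ (n - 1) - q ^ n := by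
    rw [← Nat.card_eq_fintype_card]
    have h5 := Cfsg.Agent.S0290.result hF n (by omega) a b hab
    rw [← coe_quadMinus, ← hQ] at h5
    exact h5
  rw [h3, h4, ← ZMod.natCast_eq_natCast_iff] at h2
  have hq1 : 1 ≤ q := hF ▸ Fintype.card_pos
  have hle : q ^ n ≤ q ^ (2 * n - 1) + q ^ (n - 1) :=
    (Nat.pow_le_pow_right hq1 (by omega)).trans (Nat.le_add_right _ _)
  rw [Nat.cast_sub hle, Nat.cast_add, Nat.cast_pow, Nat.cast_pow, Nat.cast_pow, Nat.cast_one] at h2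
  have h6 : ((q : ℕ) : ZMod r) ^ (n - 1) = -1 := neg_one_of_order hr (by omega) ho
  have e1 : ((q : ℕ) : ZMod r) ^ (2 * n - 1) = (q : ZMod r) := by
    have : 2 * n - 1 = (n - 1) + (n - 1) + 1 := by omega
    rw [this, pow_succ, pow_add, h6]
    ring
  have e2 : ((q : ℕ) : ZMod r) ^ n = -(q : ZMod r) := by
    obtain ⟨n', rfl⟩ : ∃ n', n = n' + 1 := ⟨n - 1, by omega⟩
    rw [Nat.add_sub_cancel] at h6
    rw [pow_succ, h6]
    ring
  rw [e1, e2, h6] at h2
  have h7 : (2 : ZMod r) * ((q : ZMod r) - 1) = 0 := by linear_combination h2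
  have hr2 : r ≠ 2 := ne_two_of_order (by omega) ho
  have h2r : (2 : ZMod r) ≠ 0 := by
    intro h
    have h8 : ((2 : ℕ) : ZMod r) = 0 := by exact_mod_cast h
    rw [ZMod.natCast_eq_zero_iff] at h8
    exact hr2 ((Nat.prime_dvd_prime_iff_eq hr Nat.prime_two).1 h8)
  have h9 : (q : ZMod r) = 1 := sub_eq_zero.1 ((mul_eq_zero.1 h7).resolve_left h2r)
  rw [h9, orderOf_one] at ho
  omega

/-- **L-DD-sub** -/
theorem lat_minus_sub {r : ℕ} (hp : p.Prime) (hf : 1 ≤ f) (hF : Fintype.card F = p ^ f) (hn : 4 ≤ n) {a b : F}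
    (hab : ∀ z₁ z₂ : F, z₁ ^ 2 + a * z₁ * z₂ + b * z₂ ^ 2 = 0 → z₁ = 0 ∧ z₂ = 0) (hr : r.Prime)
    (ho : orderOf (((p ^ f : ℕ)) : ZMod r) = 2 * (n - 1)) :
    LatW (POmega F (quadFormMinus (n - 1) F a b)) p r := by
  have hpF := Fact.mk hp
  have hfr := Fact.mk hr
  have hchar : CharP F p := charP_of_card hp hf hF
  have hq : Nat.card F = p ^ f := by rw [Nat.card_eq_fintype_card, hF]
  have hvp := fact_minus hp hf hF hn hab
  have hdim : Fintype.card ((Fin (n - 1) ⊕ Fin (n - 1)) ⊕ Fin 2) = 2 * n := by simp; omega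
  have hdim' : finrank F ((Fin (n - 1) ⊕ Fin (n - 1)) ⊕ Fin 2 → F) = 2 * n := by simp; omega
  have hnd := quadMinus_nondegenerate (m := n - 1) (F := F) hab
  have hs := quadMinus_isotropic (m := n - 1) (F := F) (by omega) a b
  have hr2 : r ≠ 2 := ne_two_of_order (by omega) ho
  have hrq := not_dvd_of_order hr (by omega) ho
  have hrp : r ≠ p := by
    rintro rfl
    exact hrq (dvd_pow_self r (by omega))
  have ho' : orderOf ((Nat.card F : ℕ) : ZMod r) = 2 * (n - 1) := by rw [hq]; exact ho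
  have hS := Cfsg.Agent.S0294.result hF n hn a b hab
  have hrS : r ∣ Nat.card (POmega F (quadFormMinus (n - 1) F a b)) := by
    have h1 : r ∣ ∏ i ∈ Finset.range (n - 1), ((p ^ f) ^ (2 * (i + 1)) - 1) := by
      refine (Dvd.dvd.trans ?_ (Finset.dvd_prod_of_mem (fun i => (p ^ f) ^ (2 * (i + 1)) - 1)
        (show n - 2 ∈ Finset.range (n - 1) by rw [Finset.mem_range]; omega)))
      have h2 : n - 2 + 1 = n - 1 := by omega
      rw [h2, ← ZMod.natCast_eq_zero_iff, Nat.cast_sub (Nat.one_le_pow _ _ (Nat.pow_pos hp.pos)), Nat.cast_pow,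
        Nat.cast_one, ← ho, pow_orderOf_eq_one, sub_self]
    have h2 : r ∣ Nat.gcd 4 ((p ^ f) ^ n + 1) * Nat.card (POmega F (quadFormMinus (n - 1) F a b)) := by
      rw [hS]
      exact Dvd.dvd.mul_left h1 _
    exact (hr.dvd_mul.1 h2).resolve_left (odd_not_dvd hr hr2)
  have hpS : p ∣ Nat.card (POmega F (quadFormMinus (n - 1) F a b)) := by
    by_contra h
    rw [Nat.factorization_eq_zero_of_not_dvd h] at hvp
    have : 0 < f * (n * (n - 1)) := Nat.mul_pos (by omega) (Nat.mul_pos (by omega) (by omega))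
    omega
  rw [← coe_quadMinus] at hpS hrS ⊢
  have hE := OrthUnip.pomega_noEdge p (quadMinus (n - 1) F a b) hnd hn hdim' hs hr hrp hr2 ho'
    (Or.inr ⟨even_two_mul (n - 1), rfl⟩) (Or.inr rfl)
  exact latW_sub hnd hn hdim hs hp hq (by omega) hr hr2 hrp ho' hE hrS hpS
    (fun y hy _ => exists_sing hF hn hab hr ho _ rfl y hy)

end

end Cfsg.Agent.H783.CS
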