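import Mathlib

/-!
# S3677: orthogonal decompositions `V = W ⊥ C`, `C` a hyperbolic plane or zero (helper783)
-/

set_option autoImplicit false
set_option linter.unusedSectionVars false

namespace Cfsg.Agent.H783.CS

open Module QuadraticMap Polynomial

section basic

variable {F : Type*} [Field F] {V : Type*} [AddCommGroup V] [Module F V]

theorem comm_aeval {A : Type*} [Ring A] [Algebra F A] {g x : A} (h : Commute g x) (P : F[X]) :
    Commute g (aeval x P) := by
  induction P using Polynomial.induction_on' with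
  | add p q hp hq => rw [map_add]; exact hp.add_right hq
  | monomial n c =>
    rw [aeval_monomial]
    exact (Algebra.commute_algebraMap_right c g).mul_right (h.pow_right n)

theorem polar_iso {Q : QuadraticForm F V} {T : Module.End F V} (hT : ∀ v, Q (T v) = Q v) (u v : V) :
    polar Q (T u) (T v) = polar Q u v := by
  unfold polar
  rw [← map_add, hT, hT, hT]

/-- `V = W ⊥ C` where `C` is spanned by the hyperbolic pair `e₁, e₂`, or is zero (and `e₁ = e₂ = 0`) -/
structure Geo (Q : QuadraticForm F V) (W C : Submodule F V) (e₁ e₂ : V) : Prop where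
  nd : ∀ u, (∀ v, polar Q u v = 0) → u = 0
  ic : IsCompl W C
  perp : ∀ w ∈ W, ∀ c ∈ C, polar Q w c = 0
  q1 : Q e₁ = 0
  q2 : Q e₂ = 0
  pr : polar Q e₁ e₂ = 1 ∨ (e₁ = 0 ∧ e₂ = 0)
  sp : C = Submodule.span F {e₁, e₂}

variable {Q : QuadraticForm F V} {W C : Submodule F V} {e₁ e₂ : V}

/-- `T` is a diagonal isometry of the plane -/
def Dg (e₁ e₂ : V) (T : Module.End F V) : Prop := ∃ l : F, l ≠ 0 ∧ T e₁ = l • e₁ ∧ T e₂ = l⁻¹ • e₂

/-- `T` interchanges the two singular lines of the plane -/
def Sw (e₁ e₂ : V) (T : Module.End F V) : Prop := ∃ l : F, l ≠ 0 ∧ T e₁ = l • e₂ ∧ T e₂ = l⁻¹ • e₁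

theorem Dg.one : Dg e₁ e₂ (1 : Module.End F V) :=
  ⟨1, one_ne_zero, by simp, by simp⟩

namespace Geo

variable (h : Geo Q W C e₁ e₂)

include h

theorem e1C : e₁ ∈ C := by rw [h.sp]; exact Submodule.subset_span (by simp)

theorem e2C : e₂ ∈ C := by rw [h.sp]; exact Submodule.subset_span (by simp)

theorem memC {v : V} (hv : v ∈ C) : ∃ a b : F, v = a • e₁ + b • e₂ := by
  rw [h.sp, Submodule.mem_span_pair] at hv
  obtain ⟨a, b, hab⟩ := hv
  exact ⟨a, b, hab.symm⟩

theorem ex (v : V) : ∃ w ∈ W, ∃ c ∈ C, v = w + c := by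
  obtain ⟨w, hw, c, hc, rfl⟩ := Submodule.mem_sup.1 (show v ∈ W ⊔ C by rw [h.ic.sup_eq_top]; trivial)
  exact ⟨w, hw, c, hc, rfl⟩

theorem perp' {w c : V} (hw : w ∈ W) (hc : c ∈ C) : polar Q c w = 0 := by
  rw [polar_comm]; exact h.perp w hw c hc

theorem mem_W {v : V} (hv : ∀ c ∈ C, polar Q v c = 0) : v ∈ W := by
  obtain ⟨w, hw, c, hc, rfl⟩ := h.ex v
  have h1 : c = 0 := by
    apply h.nd
    intro u
    obtain ⟨w', hw', c', hc', rfl⟩ := h.ex u
    rw [polar_add_right, h.perp' hw' hc, zero_add]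
    have h2 := hv c' hc'
    rwa [polar_add_left, h.perp w hw c' hc', zero_add] at h2
  rw [h1, add_zero]
  exact hw

theorem mem_C {v : V} (hv : ∀ w ∈ W, polar Q v w = 0) : v ∈ C := by
  obtain ⟨w, hw, c, hc, rfl⟩ := h.ex v
  have h1 : w = 0 := by
    apply h.nd
    intro u
    obtain ⟨w', hw', c', hc', rfl⟩ := h.ex u
    rw [polar_add_right, h.perp w hw c' hc', add_zero]
    have h2 := hv w' hw'
    rwa [polar_add_left, h.perp' hw' hc, add_zero] at h2
  rw [h1, zero_add]
  exact hc

theorem inj {T : Module.End F V} (hT : ∀ v, Q (T v) = Q v) : Function.Injective T := by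
  rw [← LinearMap.ker_eq_bot, LinearMap.ker_eq_bot']
  intro u hu
  apply h.nd
  intro v
  rw [← polar_iso hT, hu, polar_zero_left]

theorem surjOn [FiniteDimensional F V] {T : Module.End F V} (hT : ∀ v, Q (T v) = Q v) {N : Submodule F V}
    (hN : ∀ v ∈ N, T v ∈ N) {v : V} (hv : v ∈ N) : ∃ u ∈ N, T u = v := by
  have h1 : Function.Injective (T.restrict hN) := fun a b hab =>
    Subtype.ext (h.inj hT (congrArg Subtype.val hab))
  obtain ⟨u, hu⟩ := LinearMap.injective_iff_surjective.1 h1 ⟨v, hv⟩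
  exact ⟨u, u.2, congrArg Subtype.val hu⟩

theorem keepW [FiniteDimensional F V] {T : Module.End F V} (hT : ∀ v, Q (T v) = Q v) (hC : ∀ v ∈ C, T v ∈ C) :
    ∀ v ∈ W, T v ∈ W := by
  intro v hv
  apply h.mem_W
  intro c hc
  obtain ⟨c', hc', rfl⟩ := h.surjOn hT hC hc
  rw [polar_iso hT]
  exact h.perp v hv c' hc'

theorem keepC [FiniteDimensional F V] {T : Module.End F V} (hT : ∀ v, Q (T v) = Q v) (hW : ∀ v ∈ W, T v ∈ W) :
    ∀ v ∈ C, T v ∈ C := by
  intro v hv
  apply h.mem_C
  intro w hw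
  obtain ⟨w', hw', rfl⟩ := h.surjOn hT hW hw
  rw [polar_iso hT]
  exact h.perp' hw' hv

theorem ext_on {S T : Module.End F V} (hW : ∀ v ∈ W, S v = T v) (hC : ∀ v ∈ C, S v = T v) : S = T := by
  apply LinearMap.ext
  intro v
  obtain ⟨w, hw, c, hc, rfl⟩ := h.ex v
  rw [map_add, map_add, hW w hw, hC c hc]

theorem Q_comb (a b : F) : Q (a • e₁ + b • e₂) = a * b * polar Q e₁ e₂ := by
  have h1 : Q (a • e₁ + b • e₂) = Q (a • e₁) + Q (b • e₂) + polar Q (a • e₁) (b • e₂) := by
    unfold polar; ring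
  rw [h1, QuadraticMap.map_smul, QuadraticMap.map_smul, h.q1, h.q2, polar_smul_left, polar_smul_right]
  simp only [smul_eq_mul]
  ring

/-- an isometry of the plane is diagonal or interchanges the two singular lines -/
theorem dg_or_sw {T : Module.End F V} (hT : ∀ v, Q (T v) = Q v) (hC : ∀ v ∈ C, T v ∈ C) :
    Dg e₁ e₂ T ∨ Sw e₁ e₂ T := by
  rcases h.pr with hp | ⟨h1, h2⟩
  · obtain ⟨a, b, hab⟩ := h.memC (hC e₁ h.e1C)
    obtain ⟨c, d, hcd⟩ := h.memC (hC e₂ h.e2C)
    have q1 : a * b = 0 := by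
      have := hT e₁
      rwa [hab, h.Q_comb, hp, mul_one, h.q1] at this
    have q2 : c * d = 0 := by
      have := hT e₂
      rwa [hcd, h.Q_comb, hp, mul_one, h.q2] at this
    have q3 : a * d + b * c = 1 := by
      have h3 := polar_iso hT e₁ e₂
      rw [hab, hcd, hp] at h3
      have e11 : polar Q e₁ e₁ = 0 := by
        have := h.Q_comb 2 0
        have h4 : polar Q e₁ e₁ = 2 * Q e₁ := by
          rw [polar_self]
          simp
        rw [h4, h.q1, mul_zero]
      have e22 : polar Q e₂ e₂ = 0 := by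
        have h4 : polar Q e₂ e₂ = 2 * Q e₂ := by
          rw [polar_self]
          simp
        rw [h4, h.q2, mul_zero]
      have e21 : polar Q e₂ e₁ = 1 := by rw [polar_comm]; exact hp
      rw [polar_add_left, polar_add_right, polar_add_right] at h3
      simp only [polar_smul_left, polar_smul_right, e11, e22, e21, hp, smul_eq_mul] at h3
      linear_combination h3
    rcases mul_eq_zero.1 q1 with ha | hb
    · right
      have hb0 : b ≠ 0 := by
        rintro rfl
        rw [ha, zero_mul, zero_mul, add_zero] at q3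
        exact zero_ne_one q3
      rw [ha, zero_mul, zero_add] at q3
      have hc0 : c ≠ 0 := by
        rintro rfl
        rw [mul_zero] at q3
        exact zero_ne_one q3
      have hd : d = 0 := (mul_eq_zero.1 q2).resolve_left hc0
      refine ⟨b, hb0, by rw [hab, ha, zero_smul, zero_add], ?_⟩
      rw [hcd, hd, zero_smul, add_zero, eq_inv_of_mul_eq_one_right q3]
    · left
      have ha0 : a ≠ 0 := by
        rintro rfl
        rw [hb, zero_mul, zero_mul, add_zero] at q3
        exact zero_ne_one q3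
      rw [hb, zero_mul, add_zero] at q3
      have hd0 : d ≠ 0 := by
        rintro rfl
        rw [mul_zero] at q3
        exact zero_ne_one q3
      have hc : c = 0 := (mul_eq_zero.1 q2).resolve_right hd0
      refine ⟨a, ha0, by rw [hab, hb, zero_smul, add_zero], ?_⟩
      rw [hcd, hc, zero_smul, zero_add, eq_inv_of_mul_eq_one_right q3]
  · left
    refine ⟨1, one_ne_zero, ?_, ?_⟩
    · rw [h1]; simp
    · rw [h2]; simp

/-- two diagonal isometries commute on the plane -/
theorem dg_comm {S T : Module.End F V} (hS : Dg e₁ e₂ S) (hT : Dg e₁ e₂ T) {v : V} (hv : v ∈ C) :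
    S (T v) = T (S v) := by
  obtain ⟨l, -, h1, h2⟩ := hS
  obtain ⟨m, -, h3, h4⟩ := hT
  obtain ⟨a, b, rfl⟩ := h.memC hv
  simp only [map_add, map_smul, h1, h2, h3, h4, smul_smul]
  ring_nf

theorem dg_keep {T : Module.End F V} (hT : Dg e₁ e₂ T) {v : V} (hv : v ∈ C) : T v ∈ C := by
  obtain ⟨l, -, h1, h2⟩ := hT
  obtain ⟨a, b, rfl⟩ := h.memC hv
  simp only [map_add, map_smul, h1, h2, smul_smul]
  exact C.add_mem (C.smul_mem _ h.e1C) (C.smul_mem _ h.e2C)

theorem dg_pow {T : Module.End F V} (hT : Dg e₁ e₂ T) (N : ℕ) (hN : ∀ l : F, l ≠ 0 → l ^ N = 1) {v : V} (hv : v ∈ C) :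
    (T ^ N) v = v := by
  obtain ⟨l, hl, h1, h2⟩ := hT
  have h3 : ∀ k : ℕ, (T ^ k) e₁ = l ^ k • e₁ := by
    intro k
    induction k with
    | zero => simp
    | succ k ih => rw [pow_succ, Module.End.mul_apply, h1, map_smul, ih, smul_smul, pow_succ, mul_comm]
  have h4 : ∀ k : ℕ, (T ^ k) e₂ = l⁻¹ ^ k • e₂ := by
    intro k
    induction k with
    | zero => simp
    | succ k ih => rw [pow_succ, Module.End.mul_apply, h2, map_smul, ih, smul_smul, pow_succ, mul_comm]
  obtain ⟨a, b, rfl⟩ := h.memC hv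
  rw [map_add, map_smul, map_smul, h3, h4, hN l hl, hN l⁻¹ (inv_ne_zero hl), one_smul, one_smul]

theorem sw_sq {T : Module.End F V} (hT : Sw e₁ e₂ T) {v : V} (hv : v ∈ C) : T (T v) = v := by
  obtain ⟨l, hl, h1, h2⟩ := hT
  obtain ⟨a, b, rfl⟩ := h.memC hv
  simp only [map_add, map_smul, h1, h2, smul_smul]
  have e1 : a * (l * l⁻¹) = a := by rw [mul_inv_cancel₀ hl, mul_one]
  have e2 : b * (l⁻¹ * l) = b := by rw [inv_mul_cancel₀ hl, mul_one]
  rw [mul_assoc a, e1, mul_assoc b, e2]

/-- `g ^ (2 (q - 1)) = 1` on the plane -/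
theorem pow_two_mul {T : Module.End F V} (hT : ∀ v, Q (T v) = Q v) (hC : ∀ v ∈ C, T v ∈ C) (N : ℕ)
    (hN : ∀ l : F, l ≠ 0 → l ^ N = 1) {v : V} (hv : v ∈ C) : (T ^ (2 * N)) v = v := by
  rcases h.dg_or_sw hT hC with hd | hs
  · apply h.dg_pow hd
    intro l hl
    · rw [mul_comm, pow_mul, hN l hl, one_pow]
    · exact hv
  · have h1 : ∀ k : ℕ, ((T ^ 2) ^ k) v = v := by
      intro k
      induction k with
      | zero => simp
      | succ k ih =>
        rw [pow_succ, Module.End.mul_apply]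
        have h2 : (T ^ 2) v = v := by
          rw [pow_two, Module.End.mul_apply]
          exact h.sw_sq hs hv
        rw [h2, ih]
    rw [pow_mul]
    exact h1 N

/-- the fixed space splits -/
theorem fix_split [FiniteDimensional F V] {T : Module.End F V} (hW : ∀ v ∈ W, T v ∈ W) (hC : ∀ v ∈ C, T v ∈ C) :
    finrank F (LinearMap.ker (T - 1)) =
      finrank F (LinearMap.ker (T - 1) ⊓ W : Submodule F V) + finrank F (LinearMap.ker (T - 1) ⊓ C : Submodule F V) := by
  have hm : ∀ v : V, v ∈ LinearMap.ker (T - 1) ↔ T v = v := by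
    intro v
    rw [LinearMap.mem_ker, LinearMap.sub_apply, Module.End.one_apply, sub_eq_zero]
  have h1 := Submodule.finrank_sup_add_finrank_inf_eq (LinearMap.ker (T - 1) ⊓ W) (LinearMap.ker (T - 1) ⊓ C)
  have h2 : LinearMap.ker (T - 1) ⊓ W ⊓ (LinearMap.ker (T - 1) ⊓ C) = ⊥ := by
    rw [eq_bot_iff]
    rintro v ⟨⟨-, hv1⟩, ⟨-, hv2⟩⟩
    exact (Submodule.disjoint_def.1 h.ic.disjoint) v hv1 hv2
  have h3 : LinearMap.ker (T - 1) ⊓ W ⊔ LinearMap.ker (T - 1) ⊓ C = LinearMap.ker (T - 1) := by
    apply le_antisymm (sup_le inf_le_left inf_le_left)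
    intro v hv
    rw [hm] at hv
    obtain ⟨w, hw, c, hc, rfl⟩ := h.ex v
    rw [map_add] at hv
    have h4 : T w - w = c - T c := by
      rw [sub_eq_sub_iff_add_eq_add, hv, add_comm]
    have h5 : T w - w = 0 := (Submodule.disjoint_def.1 h.ic.disjoint) _ (W.sub_mem (hW w hw) hw)
      (h4 ▸ C.sub_mem hc (hC c hc))
    have h6 : c - T c = 0 := h4 ▸ h5
    exact Submodule.add_mem_sup ⟨(hm w).2 (sub_eq_zero.1 h5), hw⟩ ⟨(hm c).2 (sub_eq_zero.1 h6).symm, hc⟩
  rw [h3, h2, finrank_bot, add_zero] at h1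
  exact h1

/-- an isometry preserving the plane with even-dimensional fixed space is diagonal -/
theorem dg_of_even [FiniteDimensional F V] {T : Module.End F V} (hT : ∀ v, Q (T v) = Q v) (hC : ∀ v ∈ C, T v ∈ C)
    (he : Even (finrank F (LinearMap.ker (T - 1) ⊓ C : Submodule F V))) : Dg e₁ e₂ T := by
  rcases h.dg_or_sw hT hC with hd | hs
  · exact hd
  · rcases h.pr with hp | ⟨h1, h2⟩
    · exfalso
      obtain ⟨l, hl, h3, h4⟩ := hs
      have hm : ∀ v : V, v ∈ LinearMap.ker (T - 1) ↔ T v = v := by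
        intro v
        rw [LinearMap.mem_ker, LinearMap.sub_apply, Module.End.one_apply, sub_eq_zero]
      -- the fixed space is spanned by `e₁ + l e₂`
      have hli : ∀ a b : F, a • e₁ + b • e₂ = 0 → a = 0 ∧ b = 0 := by
        intro a b hab
        have e11 : polar Q e₁ e₁ = 0 := by
          rw [polar_self]; simp [h.q1]
        have e22 : polar Q e₂ e₂ = 0 := by
          rw [polar_self]; simp [h.q2]
        have e21 : polar Q e₂ e₁ = 1 := by rw [polar_comm]; exact hp
        constructor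
        · have := congrArg (fun v => polar Q v e₂) hab
          simp only [polar_add_left, polar_smul_left, e22, hp, polar_zero_left, smul_eq_mul, mul_zero, add_zero,
            mul_one] at this
          exact this
        · have := congrArg (fun v => polar Q v e₁) hab
          simp only [polar_add_left, polar_smul_left, e11, e21, polar_zero_left, smul_eq_mul, mul_zero, zero_add,
            mul_one] at this
          exact this
      have hfx : (LinearMap.ker (T - 1) ⊓ C : Submodule F V) = Submodule.span F {e₁ + l • e₂} := by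
        apply le_antisymm
        · rintro v ⟨hv1, hv2⟩
          obtain ⟨a, b, rfl⟩ := h.memC hv2
          rw [SetLike.mem_coe, hm, map_add, map_smul, map_smul, h3, h4, smul_smul, smul_smul] at hv1
          have h5 : (b * l⁻¹ - a) • e₁ + (a * l - b) • e₂ = 0 := by
            rw [sub_smul, sub_smul]
            have : (b * l⁻¹) • e₁ - a • e₁ + ((a * l) • e₂ - b • e₂) =
                ((a * l) • e₂ + (b * l⁻¹) • e₁) - (a • e₁ + b • e₂) := by abel
            rw [this, hv1, sub_self]
          obtain ⟨-, h6⟩ := hli _ _ h5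
          rw [Submodule.mem_span_singleton]
          refine ⟨a, ?_⟩
          rw [smul_add, smul_smul, sub_eq_zero.1 h6]
        · rw [Submodule.span_singleton_le_iff_mem]
          refine ⟨?_, C.add_mem h.e1C (C.smul_mem _ h.e2C)⟩
          rw [SetLike.mem_coe, hm, map_add, map_smul, h3, h4, smul_smul, mul_inv_cancel₀ hl, one_smul, add_comm]
      have hne : e₁ + l • e₂ ≠ 0 := by
        intro h0
        have := (hli 1 l (by rw [one_smul]; exact h0)).1
        exact one_ne_zero this
      rw [hfx, finrank_span_singleton hne] at he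
      exact absurd he (by decide)
    · exact ⟨1, one_ne_zero, by rw [h1]; simp, by rw [h2]; simp⟩

end Geo

end basic

end Cfsg.Agent.H783.CS
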